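import Cfsg.Agent.Lib.SingMax.NonDegMain
import Cfsg.Agent.Lib.MaxClass.OrthEven.Types

/-!
The stabiliser of a non-degenerate subspace is maximal: one part has Witt index at least two.
-/

set_option autoImplicit false
set_option linter.unusedSectionVars false

namespace Cfsg.Agent.Lib.OrthEight

open Matrix QuadraticMap Cfsg.Agent.Lib.SingMax
open Cfsg.Agent.Lib.FormMax.OrthSL (eichlerGL eichlerGL_mulVec Q_eichlerGL)
open Cfsg.Agent.Lib.MaxClass
open Cfsg.Geo (IsNondegenerateOn)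

namespace WittTwo

variable {ι : Type} [Fintype ι] [DecidableEq ι] {F : Type*} [Field F]
  {Q : QuadraticForm F (ι → F)} {M : Subgroup (GL ι F)}

variable [Finite F] (hQ : (QuadraticMap.polarBilin Q).Nondegenerate) (hn : 7 ≤ Fintype.card ι)
  {W : Submodule F (ι → F)} (hW : IsNondegenerateOn (polar ⇑Q) W) (hk : 4 ≤ Module.finrank F W)
  (hS : ∃ S ≤ W, Cfsg.Geo.IsTotallySingularQuad (⇑Q) S ∧ 2 ≤ Module.finrank F S)
include hQ hn hW hk hS

theorem mem_stab_of {g : GL ι F} (hg : g ∈ Cfsg.Geo.omegaGL ⇑Q)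
    (h : ∀ w ∈ W, (g : Matrix ι ι F) *ᵥ w ∈ W) : g ∈ (Cfsg.Geo.subspaceStabilizer W ⊓ Cfsg.Geo.omegaGL ⇑Q) :=
  ⟨Forms.mem_stabilizing_of_mapsTo (toMat := Cfsg.glToMat ι F) W fun w hw => by simpa using h w hw, hg⟩

theorem rootIn_stab {e a : ι → F} (he : e ∈ W) (ha : a ∈ W) (heQ : Q e = 0) (hea : polar ⇑Q e a = 0) :
    RootIn Q (Cfsg.Geo.subspaceStabilizer W ⊓ Cfsg.Geo.omegaGL ⇑Q) e a := by
  refine ⟨heQ, hea, mem_stab_of hQ hn hW hk hS (E_mem_omega hQ hn heQ hea) fun w hw => ?_⟩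
  rw [eichlerGL_mulVec]
  exact W.sub_mem (W.add_mem hw (W.smul_mem _ ha)) (W.smul_mem _ he)

omit hk in
theorem exists_singular_point : ∃ e ∈ W, e ≠ 0 ∧ Q e = 0 := by
  obtain ⟨S, hSW, hSts, hSd⟩ := hS
  obtain ⟨e, he, he0⟩ := S.ne_bot_iff.mp fun h => by rw [h, finrank_bot] at hSd; omega
  exact ⟨e, hSW he, he0, hSts e he⟩

omit hk in
/-- A hyperbolic pair of `W` leaves a singular vector. -/
theorem exists_singular_pair {z r : ι → F} (hz : z ∈ W) (hr : r ∈ W) (hzQ : Q z = 0) (hrQ : Q r = 0)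
    (hzr : polar ⇑Q z r = 1) : ∃ v ∈ W, v ≠ 0 ∧ Q v = 0 ∧ polar ⇑Q z v = 0 ∧ polar ⇑Q r v = 0 := by
  obtain ⟨S, hSW, hSts, hSd⟩ := hS
  have key : ∀ z r : ι → F, z ∈ W → Q z = 0 → polar ⇑Q z r = 1 →
      (∃ v ∈ W, v ≠ 0 ∧ Q v = 0 ∧ polar ⇑Q z v = 0 ∧ polar ⇑Q r v = 0) ∨ z ∈ S := by
    intro z r hz hzQ hzr
    obtain ⟨s, hs, hs0, hsz⟩ : ∃ s ∈ S, s ≠ 0 ∧ polar ⇑Q z s = 0 := by
      have h1 := ((QuadraticMap.polarBilin Q z).domRestrict S).finrank_range_add_finrank_ker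
      have h3 := Submodule.finrank_le ((QuadraticMap.polarBilin Q z).domRestrict S).range
      rw [Module.finrank_self] at h3
      obtain ⟨⟨s, hs⟩, hsk, hs0⟩ := Submodule.exists_mem_ne_zero_of_ne_bot
        (fun h : ((QuadraticMap.polarBilin Q z).domRestrict S).ker = ⊥ => by rw [h, finrank_bot] at h1; omega)
      exact ⟨s, hs, fun h => hs0 (Subtype.ext h), LinearMap.mem_ker.mp hsk⟩
    set c := polar ⇑Q r s with hc
    by_cases h0 : s - c • z = 0
    · right
      rw [sub_eq_zero] at h0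
      have hc0 : c ≠ 0 := fun h => hs0 (by rw [h0, h, zero_smul])
      exact (S.smul_mem_iff hc0).mp (h0 ▸ hs)
    · left
      refine ⟨_, W.sub_mem (hSW hs) (W.smul_mem c hz), h0, ?_, ?_, ?_⟩
      · rw [sub_eq_add_neg, QuadraticMap.map_add (⇑Q), QuadraticMap.map_neg, QuadraticMap.map_smul, hzQ, hSts s hs,
          polar_neg_right, polar_smul_right, polar_comm _ s z, hsz]
        simp
      · rw [polar_sub_right, hsz, polar_smul_right, Orth.polar_self_zero hzQ]; simp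
      · rw [polar_sub_right, polar_smul_right, polar_comm _ r z, hzr, ← hc]; simp
  rcases key z r hz hzQ hzr with h | hzS
  · exact h
  rcases key r z hr hrQ (by rw [polar_comm, hzr]) with ⟨v, hv, hv0, hvQ, h1, h2⟩ | hrS
  · exact ⟨v, hv, hv0, hvQ, h2, h1⟩
  · have h := hSts _ (S.add_mem hzS hrS)
    rw [QuadraticMap.map_add (⇑Q), hzQ, hrQ, hzr, zero_add, zero_add] at h
    exact absurd h one_ne_zero

omit hk in
/-- A singular vector orthogonal to a given one and independent of it. -/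
theorem exists_singular_perp {x : ι → F} (hx : x ∈ W) :
    ∃ v ∈ W, v ≠ 0 ∧ Q v = 0 ∧ polar ⇑Q x v = 0 ∧ ∀ c : F, c • x ≠ v := by
  by_cases hxQ : Q x = 0
  · by_cases hx0 : x = 0
    · obtain ⟨e, he, he0, heQ⟩ := exists_singular_point hQ hn hW hS
      exact ⟨e, he, he0, heQ, by simp [hx0], fun c h => he0 (by rw [← h, hx0, smul_zero])⟩
    obtain ⟨r, hr, hrQ, hxr⟩ := exists_partner_in hQ hW hx hx0 hxQ
    obtain ⟨v, hv, hv0, hvQ, h1, h2⟩ := exists_singular_pair hQ hn hW hS hx hr hxQ hrQ hxr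
    refine ⟨v, hv, hv0, hvQ, h1, fun c h => ?_⟩
    rw [← h, polar_smul_right, polar_comm _ r x, hxr, smul_eq_mul, mul_one] at h2
    exact hv0 (by rw [← h, h2, zero_smul])
  · obtain ⟨S, hSW, hSts, hSd⟩ := hS
    have h1 := ((QuadraticMap.polarBilin Q x).domRestrict S).finrank_range_add_finrank_ker
    have h3 := Submodule.finrank_le ((QuadraticMap.polarBilin Q x).domRestrict S).range
    rw [Module.finrank_self] at h3
    obtain ⟨⟨s, hs⟩, hsk, hs0⟩ := Submodule.exists_mem_ne_zero_of_ne_bot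
      (fun h : ((QuadraticMap.polarBilin Q x).domRestrict S).ker = ⊥ => by rw [h, finrank_bot] at h1; omega)
    refine ⟨s, hSW hs, fun h => hs0 (Subtype.ext h), hSts s hs, LinearMap.mem_ker.mp hsk, fun c h => ?_⟩
    have hQs := hSts s hs
    rw [← h, QuadraticMap.map_smul, smul_eq_mul] at hQs
    have hc : c = 0 := by simpa using (mul_eq_zero.mp hQs).resolve_right hxQ
    exact hs0 (Subtype.ext (show s = 0 by rw [← h, hc, zero_smul]))

variable {U₀ : Submodule F (ι → F)}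

theorem fix_perp {e a u : ι → F} (he : e ∈ W) (ha : a ∈ W) (heQ : Q e = 0) (hea : polar ⇑Q e a = 0)
    (hu : u ∈ polarPerp Q W) : (eichlerGL Q e a heQ hea : Matrix ι ι F) *ᵥ u = u := by
  rw [eichlerGL_mulVec, mem_polarPerp.1 hu e he, mem_polarPerp.1 hu a ha]
  simp

/-- One step: two independent orthogonal centres in `W` link to the same part of the complement. -/
theorem rootIn_step (hPM : (Cfsg.Geo.subspaceStabilizer W ⊓ Cfsg.Geo.omegaGL ⇑Q) ≤ M) {z z' u : ι → F} (hz : z ∈ W) (hz' : z' ∈ W) (hzQ : Q z = 0)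
    (hz'Q : Q z' = 0) (hzz : polar ⇑Q z z' = 0) (hli : LinearIndependent F ![z, z'])
    (hu : u ∈ polarPerp Q W) (h : RootIn Q M z u) : RootIn Q M z' u := by
  obtain ⟨a, ha, hai⟩ := exists_polar_in hQ hW hli (fun i => by fin_cases i <;> simp [hz, hz']) ![1, 1]
  have h1 : polar ⇑Q z a = 1 := hai 0
  have h2 : polar ⇑Q z' a = 1 := hai 1
  set v := a - Q a • z with hv
  have hvW : v ∈ W := W.sub_mem ha (W.smul_mem _ hz)
  have hvQ : Q v = 0 := by
    rw [hv, sub_eq_add_neg, QuadraticMap.map_add (⇑Q), QuadraticMap.map_neg, QuadraticMap.map_smul,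
      polar_neg_right, polar_smul_right, polar_comm _ a z, h1, hzQ]
    simp
  have hvz : polar ⇑Q v z = 1 := by
    rw [hv, polar_sub_left, polar_smul_left, Orth.polar_self_zero hzQ, smul_zero, sub_zero,
      polar_comm, h1]
  have hvz' : polar ⇑Q v z' = 1 := by
    rw [hv, polar_sub_left, polar_smul_left, hzz, smul_zero, sub_zero, polar_comm, h2]
  obtain ⟨b, hb, hbz⟩ := exists_moveE (x := z) (x' := z') hvQ (hz'Q.trans hzQ.symm) one_ne_zero hvz hvz'
  have hbW : b ∈ W → RootIn Q M z' u := fun hbW => by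
    obtain ⟨hh1, hh2, hm⟩ := rootIn_stab hQ hn hW hk hS hvW hbW hvQ hb
    have := h.map (hPM hm) (Q_eichlerGL hh1 hh2)
    rwa [hbz, fix_perp hQ hn hW hk hS hvW hbW hvQ hb hu] at this
  -- replace `b` by its part in `W`
  obtain ⟨w, hw, r, hr, hbr⟩ := exists_split hQ hW b
  have hvw : polar ⇑Q v w = 0 := by
    rw [hbr, polar_add_right, mem_polarPerp.1 hr v hvW, add_zero] at hb; exact hb
  have heq : (eichlerGL Q v w hvQ hvw : Matrix ι ι F) *ᵥ z = z' := by
    have hsplit := hbz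
    rw [eichlerGL_mulVec, hvz, hbr, QuadraticMap.map_add (⇑Q), mem_polarPerp.1 hr w hw,
      polar_add_left, polar_comm _ r z, mem_polarPerp.1 hr z hz, one_smul] at hsplit
    have hr0 : r = 0 := by
      have hmem : r ∈ W := by
        have e : r = z' - z - w + (polar ⇑Q w z + 0 + (Q w + Q r + 0) * 1) • v := by rw [← hsplit]; abel
        rw [e]
        exact W.add_mem (W.sub_mem (W.sub_mem hz' hz) hw) (W.smul_mem _ hvW)
      exact Submodule.disjoint_def.1 (isCompl_polarPerp hQ hW).disjoint r hmem hr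
    rw [hr0] at hsplit
    rw [eichlerGL_mulVec, hvz, one_smul, ← hsplit]
    simp
  obtain ⟨hh1, hh2, hm⟩ := rootIn_stab hQ hn hW hk hS hvW hw hvQ hvw
  have := h.map (hPM hm) (Q_eichlerGL hh1 hh2)
  rwa [heq, fix_perp hQ hn hW hk hS hvW hw hvQ hvw hu] at this

theorem rootIn_move (hPM : (Cfsg.Geo.subspaceStabilizer W ⊓ Cfsg.Geo.omegaGL ⇑Q) ≤ M) {z z' u : ι → F} (hz : z ∈ W) (hz' : z' ∈ W) (hz0 : z ≠ 0)
    (hz'0 : z' ≠ 0) (hzQ : Q z = 0) (hz'Q : Q z' = 0) (hu : u ∈ polarPerp Q W) (h : RootIn Q M z u) :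
    RootIn Q M z' u := by
  by_cases hdep : ∃ c : F, c • z = z'
  · obtain ⟨c, hc⟩ := hdep
    obtain ⟨r, hrW, hrQ, hr⟩ := exists_partner_in hQ hW hz hz0 hzQ
    obtain ⟨z'', hz'', hz''0, hz''Q, h1, h3⟩ := exists_singular_pair hQ hn hW hS hz hrW hzQ hrQ hr
    have hli : LinearIndependent F ![z, z''] := by
      refine (LinearIndependent.pair_iff' hz0).mpr fun d e => ?_
      rw [← e, polar_smul_right, polar_comm _ r z, hr, smul_eq_mul, mul_one] at h3
      exact hz''0 (by rw [← e, h3, zero_smul])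
    have hstep := rootIn_step hQ hn hW hk hS hPM hz hz'' hzQ hz''Q h1 hli hu h
    refine rootIn_step hQ hn hW hk hS hPM hz'' hz' hz''Q hz'Q
      (by rw [← hc, polar_smul_right, polar_comm, h1, smul_zero]) ?_ hu hstep
    refine (LinearIndependent.pair_iff' hz''0).mpr fun d e => ?_
    have hc0 : c ≠ 0 := fun h0 => hz'0 (by rw [← hc, h0, zero_smul])
    have h4 : polar ⇑Q r z' = 0 := by rw [← e, polar_smul_right, h3, smul_zero]
    rw [← hc, polar_smul_right, polar_comm _ r z, hr, smul_eq_mul, mul_one] at h4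
    exact hc0 h4
  push Not at hdep
  by_cases hzz : polar ⇑Q z z' = 0
  · exact rootIn_step hQ hn hW hk hS hPM hz hz' hzQ hz'Q hzz
      ((LinearIndependent.pair_iff' hz0).mpr hdep) hu h
  obtain ⟨z'', hz'', hz''0, hz''Q, h1, h2'⟩ := exists_singular_pair hQ hn hW hS hz (W.smul_mem (polar ⇑Q z z')⁻¹ hz')
    hzQ (by rw [QuadraticMap.map_smul, hz'Q, smul_zero]) (by rw [polar_smul_right, smul_eq_mul, inv_mul_cancel₀ hzz])
  have h2 : polar ⇑Q z' z'' = 0 := by
    rw [polar_smul_left, smul_eq_mul] at h2'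
    exact (mul_eq_zero.mp h2').resolve_left (inv_ne_zero hzz)
  refine rootIn_step hQ hn hW hk hS hPM hz'' hz' hz''Q hz'Q (by rw [polar_comm, h2]) ?_ hu
    (rootIn_step hQ hn hW hk hS hPM hz hz'' hzQ hz''Q h1 ?_ hu h)
  · refine (LinearIndependent.pair_iff' hz''0).mpr fun c e => ?_
    refine hzz ?_
    rw [← e, polar_smul_right, h1, smul_zero]
  · refine (LinearIndependent.pair_iff' hz0).mpr fun c e => ?_
    rw [← e, polar_smul_right, smul_eq_mul] at h2
    rcases mul_eq_zero.mp h2 with hc0 | h'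
    · exact hz''0 (by rw [← e, hc0, zero_smul])
    · exact hzz (by rw [polar_comm]; exact h')

/-- The stabiliser induces every isometry of the complement. -/
theorem exists_stab_like (h : ↥(Cfsg.isometryGroup F ⇑Q))
    (hhW : ∀ w ∈ W, ((h : GL ι F) : Matrix ι ι F) *ᵥ w ∈ W)
    (hhU : ∀ u ∈ polarPerp Q W, ((h : GL ι F) : Matrix ι ι F) *ᵥ u ∈ polarPerp Q W) :
    ∃ g ∈ (Cfsg.Geo.subspaceStabilizer W ⊓ Cfsg.Geo.omegaGL ⇑Q), ∀ u ∈ polarPerp Q W, (g : Matrix ι ι F) *ᵥ u = ((h : GL ι F) : Matrix ι ι F) *ᵥ u := by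
  obtain ⟨e, heW, he0, heQ⟩ := exists_singular_point hQ hn hW hS
  obtain ⟨f, hfW, hfQ, hef⟩ := exists_partner_in hQ hW heW he0 heQ
  have hcov : ∀ x : ↥(Cfsg.isometryGroup F ⇑Q), ∃ s : ↥(Cfsg.isometryGroup F ⇑Q),
      Abelianization.of s = Abelianization.of x ∧
      (∀ w ∈ W, ((s : GL ι F) : Matrix ι ι F) *ᵥ w ∈ W) ∧
      (∀ u ∈ polarPerp Q W, ((s : GL ι F) : Matrix ι ι F) *ᵥ u = u) := by
    intro x
    induction x using Forms.isometry_induction hQ (Or.inr (by omega)) with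
    | h1 => exact ⟨1, rfl, fun w hw => by simpa using hw, fun u _ => by simp⟩
    | hr v hv g hg =>
      obtain ⟨s, hs, hsW, hsU⟩ := hg
      set w := e + Q v • f with hw
      have hwQ : Q w = Q v := by
        rw [hw, QuadraticMap.map_add (⇑Q), QuadraticMap.map_smul, heQ, hfQ, polar_smul_right, hef]
        simp
      have hwW : w ∈ W := W.add_mem heW (W.smul_mem _ hfW)
      have hw0 : Q w ≠ 0 := hwQ ▸ hv
      obtain ⟨c, hc⟩ := Forms.exists_conj_reflElem hQ hw0 hv hwQ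
      refine ⟨Forms.reflElem hw0 * s, ?_, fun y hy => ?_, fun u hu => ?_⟩
      · rw [map_mul, map_mul, hs, ← hc, map_mul, map_mul, map_inv, mul_comm (Abelianization.of c),
          mul_inv_cancel_right]
      · rw [Subgroup.coe_mul, Units.val_mul, ← mulVec_mulVec, Forms.reflElem_mulVec]
        exact W.sub_mem (hsW y hy) (W.smul_mem _ hwW)
      · rw [Subgroup.coe_mul, Units.val_mul, ← mulVec_mulVec, hsU u hu, Forms.reflElem_mulVec,
          mem_polarPerp.1 hu w hwW]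
        simp
  obtain ⟨s, hs, hsW, hsU⟩ := hcov h⁻¹
  have hmem : s * h ∈ Cfsg.Omega F ⇑Q := by
    refine (QuotientGroup.eq_one_iff _).1 ?_
    show Abelianization.of (s * h) = 1
    rw [map_mul, hs, ← map_mul, inv_mul_cancel, map_one]
  refine ⟨_, mem_stab_of hQ hn hW hk hS (Subgroup.mem_map_of_mem _ hmem) fun w hw => ?_, fun u hu => ?_⟩
  · rw [Subgroup.coe_subtype, Subgroup.coe_mul, Units.val_mul, ← mulVec_mulVec]
    exact hsW _ (hhW w hw)
  · rw [Subgroup.coe_subtype, Subgroup.coe_mul, Units.val_mul, ← mulVec_mulVec]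
    exact hsU _ (hhU u hu)

omit hk hS in
/-- An isometry fixing `W` pointwise between two families of the complement. -/
theorem exists_iso_map {k : ℕ} {v w : Fin k → ι → F} (hv : ∀ i, v i ∈ polarPerp Q W) (hw : ∀ i, w i ∈ polarPerp Q W)
    (hvi : LinearIndependent F v) (hwi : LinearIndependent F w) (hQv : ∀ i, Q (v i) = Q (w i))
    (hgram : ∀ i j, polar ⇑Q (v i) (v j) = polar ⇑Q (w i) (w j)) :
    ∃ h : ↥(Cfsg.isometryGroup F ⇑Q), (∀ a ∈ W, ((h : GL ι F) : Matrix ι ι F) *ᵥ a = a) ∧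
      (∀ u ∈ polarPerp Q W, ((h : GL ι F) : Matrix ι ι F) *ᵥ u ∈ polarPerp Q W) ∧
      ∀ i, ((h : GL ι F) : Matrix ι ι F) *ᵥ v i = w i := by
  have hU := nondegenerateOn_polarPerp hQ hW
  have hc := isCompl_polarPerp hQ hW
  let Q' : QuadraticForm F ↥(polarPerp Q W) := Q.comp (polarPerp Q W).subtype
  have hQ'p : ∀ a b : ↥(polarPerp Q W), polar ⇑Q' a b = polar ⇑Q (a : ι → F) b := fun a b => rfl
  have hQ' : (QuadraticMap.polarBilin Q').Nondegenerate := by
    constructor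
    · intro a ha
      by_contra ha0
      obtain ⟨-, b, hb, hab⟩ := hU (a : ι → F) a.2 (fun h => ha0 (Subtype.ext h))
      exact hab (ha ⟨b, hb⟩)
    · intro a ha
      by_contra ha0
      obtain ⟨⟨b, hb, hab⟩, -⟩ := hU (a : ι → F) a.2 (fun h => ha0 (Subtype.ext h))
      exact hab (ha ⟨b, hb⟩)
  obtain ⟨T, hT, hTx⟩ := Forms.witt_family_quad hQ' (fun i => (⟨v i, hv i⟩ : ↥(polarPerp Q W))) (fun i => ⟨w i, hw i⟩)
    (LinearIndependent.of_comp (polarPerp Q W).subtype (by exact hvi))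
    (LinearIndependent.of_comp (polarPerp Q W).subtype (by exact hwi))
    (fun i => by exact hQv i) (fun i j => by rw [hQ'p, hQ'p]; exact hgram i j)
  let P' := Submodule.prodEquivOfIsCompl W (polarPerp Q W) hc
  let h' := P'.symm ≪≫ₗ ((LinearEquiv.refl F W).prodCongr T) ≪≫ₗ P'
  have happ : ∀ (a : W) (b : ↥(polarPerp Q W)), h' ((a : ι → F) + b) = (a : ι → F) + (T b : ι → F) := by
    intro a b
    have hs : P'.symm ((a : ι → F) + b) = (a, b) := by
      rw [LinearEquiv.symm_apply_eq]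
      simp [P']
    simp only [h', LinearEquiv.trans_apply, hs]
    simp [P']
  have hh' : ∀ v, Q (h' v) = Q v := by
    intro v
    obtain ⟨a, ha, b, hb, rfl⟩ := exists_split hQ hW v
    rw [happ ⟨a, ha⟩ ⟨b, hb⟩, QuadraticMap.map_add (⇑Q), QuadraticMap.map_add (⇑Q),
      mem_polarPerp.1 (T ⟨b, hb⟩).2 a ha, mem_polarPerp.1 hb a ha]
    congr 2
    exact hT ⟨b, hb⟩
  have hapW : ∀ w ∈ W, h' w = w := fun w hw => by
    have := happ ⟨w, hw⟩ 0
    simpa using this
  have hapU : ∀ b (hb : b ∈ polarPerp Q W), h' b = (T ⟨b, hb⟩ : ι → F) := fun b hb => by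
    have := happ 0 ⟨b, hb⟩
    simpa using this
  refine ⟨Forms.isoMk h' hh', fun a ha => ?_, fun b hb => ?_, fun i => ?_⟩
  · rw [Forms.isoMk_mulVec, hapW a ha]
  · rw [Forms.isoMk_mulVec, hapU b hb]; exact (T ⟨b, hb⟩).2
  · rw [Forms.isoMk_mulVec, hapU _ (hv i)]
    exact congrArg Subtype.val (hTx i)

/-- The stabiliser realises every isometry between two families of the complement. -/
theorem exists_stab_map {k : ℕ} {v w : Fin k → ι → F} (hv : ∀ i, v i ∈ polarPerp Q W) (hw : ∀ i, w i ∈ polarPerp Q W)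
    (hvi : LinearIndependent F v) (hwi : LinearIndependent F w) (hQv : ∀ i, Q (v i) = Q (w i))
    (hgram : ∀ i j, polar ⇑Q (v i) (v j) = polar ⇑Q (w i) (w j)) :
    ∃ g ∈ (Cfsg.Geo.subspaceStabilizer W ⊓ Cfsg.Geo.omegaGL ⇑Q), ∀ i, (g : Matrix ι ι F) *ᵥ v i = w i := by
  obtain ⟨h, hhW, hhU, hhv⟩ := exists_iso_map hQ hn hW hv hw hvi hwi hQv hgram
  obtain ⟨g, hg, hgU⟩ := exists_stab_like hQ hn hW hk hS h (fun a ha => by rw [hhW a ha]; exact ha) hhU
  exact ⟨g, hg, fun i => by rw [hgU _ (hv i), hhv i]⟩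

/-- One link from `W` into the complement gives every Eichler element. -/
theorem full_of_link [Fintype F]
    (hex : ¬ (Fintype.card F ≤ 3 ∧ Module.finrank F (polarPerp Q W) = 2 ∧
      Cfsg.Geo.IsPlusTypeOn (⇑Q) (polarPerp Q W)))
    (hPM : (Cfsg.Geo.subspaceStabilizer W ⊓ Cfsg.Geo.omegaGL ⇑Q) ≤ M) {e u₀ : ι → F} (he : e ∈ W) (he0 : e ≠ 0) (heQ : Q e = 0)
    (hu : u₀ ∈ polarPerp Q W) (hu0 : u₀ ≠ 0) (h : RootIn Q M e u₀) :
    Cfsg.Geo.omegaGL ⇑Q ≤ M := by
  have hU := nondegenerateOn_polarPerp hQ hW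
  have hc := isCompl_polarPerp hQ hW
  let L : Submodule F (ι → F) :=
    { carrier := {u | u ∈ polarPerp Q W ∧ RootIn Q M e u}
      zero_mem' := ⟨Submodule.zero_mem _, rootIn_zero heQ⟩
      add_mem' := fun {x y} hx hy => ⟨Submodule.add_mem _ hx.1 hy.1, hx.2.add hy.2⟩
      smul_mem' := fun c x hx => by
        refine ⟨Submodule.smul_mem _ c hx.1, ?_⟩
        by_cases hc0 : c = 0
        · rw [hc0, zero_smul]; exact rootIn_zero heQ
        · exact (rootIn_smul_iff hc0).1 (rootIn_move hQ hn hW hk hS hPM he (W.smul_mem c he) he0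
            (smul_ne_zero hc0 he0) heQ (by rw [QuadraticMap.map_smul, heQ, smul_zero]) hx.1 hx.2) }
  have hUL : polarPerp Q W ≤ L := by
    refine eq_of_value_closed hQ hU hex L (fun x hx => hx.1) ⟨hu, h⟩ hu0 ?_
    intro x hx y hy hx0 hy0 hxy
    refine ⟨hy, ?_⟩
    obtain ⟨g, hg, hgU⟩ := exists_stab_map hQ hn hW hk hS (k := 1) (v := ![x]) (w := ![y])
      (fun i => by fin_cases i; exact hx.1) (fun i => by fin_cases i; exact hy)
      (linearIndependent_unique_iff.mpr (by simpa using hx0)) (linearIndependent_unique_iff.mpr (by simpa using hy0))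
      (fun i => by fin_cases i; exact hxy.symm)
      (fun i j => by
        fin_cases i; fin_cases j
        show polar ⇑Q x x = polar ⇑Q y y
        rw [polar_self, polar_self, hxy])
    have hgiso : ∀ z, Q ((g : Matrix ι ι F) *ᵥ z) = Q z := by
      obtain ⟨g', -, rfl⟩ := hg.2
      exact Orth.mem_isometryGroup_iff.1 g'.2
    have hgx : (g : Matrix ι ι F) *ᵥ x = y := hgU 0
    have hge : (g : Matrix ι ι F) *ᵥ e ∈ W := by
      have := (Forms.mem_stabilizing_submodule_iff (toMat := Cfsg.glToMat ι F) W).1 hg.1 e he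
      simpa using this
    have hm := hx.2.map (hPM hg) hgiso
    rw [hgx] at hm
    refine rootIn_move hQ hn hW hk hS hPM hge he (fun h0 => he0 ?_) he0 (by rw [hgiso, heQ]) heQ hy hm
    have := congrArg (fun z => ((g⁻¹ : GL ι F) : Matrix ι ι F) *ᵥ z) h0
    simpa using this
  have hfull : ∀ z ∈ W, z ≠ 0 → Q z = 0 → Full Q M z := by
    intro z hz hz0 hzQ a hzQ' hza
    obtain ⟨a₁, ha₁, a₂, ha₂, rfl⟩ := exists_split hQ hW a
    have h2 := rootIn_move hQ hn hW hk hS hPM he hz he0 hz0 heQ hzQ ha₂ (hUL ha₂).2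
    have h1 : RootIn Q M z a₁ := by
      have hz1 : polar ⇑Q z a₁ = 0 := by
        rwa [polar_add_right, mem_polarPerp.1 ha₂ z hz, add_zero] at hza
      obtain ⟨p, q, hm⟩ := rootIn_stab hQ hn hW hk hS hz ha₁ hzQ hz1
      exact ⟨p, q, hPM hm⟩
    obtain ⟨_, _, hm⟩ := h1.add h2
    exact hm
  obtain ⟨f, hf, hfQ, hef⟩ := exists_partner_in hQ hW he he0 heQ
  have hf0 : f ≠ 0 := fun h => by rw [h, polar_zero_right] at hef; exact zero_ne_one hef
  refine omega_le_of_eichler hQ hn fun x a hx ha => ?_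
  by_cases hx0 : x = 0
  · subst hx0
    convert M.one_mem
    refine gl_ext' fun y => ?_
    rw [eichlerGL_mulVec]; simp
  exact full_all hQ (hfull e he he0 heQ) (hfull f hf hf0 hfQ) heQ hfQ
    (by rw [hef]; exact one_ne_zero) hx hx0 a hx ha

/-- A move fixing a singular vector of `W` inside `W` gives a link. -/
def Link (Q : QuadraticForm F (ι → F)) (W : Submodule F (ι → F)) (M : Subgroup (GL ι F)) : Prop :=
  ∃ e' u, e' ∈ W ∧ e' ≠ 0 ∧ Q e' = 0 ∧ u ∈ polarPerp Q W ∧ u ≠ 0 ∧ RootIn Q M e' u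

theorem link_of_fixed (hPM : (Cfsg.Geo.subspaceStabilizer W ⊓ Cfsg.Geo.omegaGL ⇑Q) ≤ M) {h : GL ι F} (hhM : h ∈ M)
    (hh : ∀ y, Q ((h : Matrix ι ι F) *ᵥ y) = Q y) {e f : ι → F} (he : e ∈ W) (he0 : e ≠ 0) (heQ : Q e = 0)
    (hf : f ∈ W) (hef : polar ⇑Q e f = 0) (hhe : (h : Matrix ι ι F) *ᵥ e ∈ W)
    (hhf : (h : Matrix ι ι F) *ᵥ f ∉ W) : Link Q W M := by
  obtain ⟨p, q, hm⟩ := rootIn_stab hQ hn hW hk hS he hf heQ hef
  have h1 := RootIn.map (M := M) hhM hh ⟨p, q, hPM hm⟩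
  obtain ⟨f₁, hf₁, f₂, hf₂, hf12⟩ := exists_split hQ hW ((h : Matrix ι ι F) *ᵥ f)
  have hQ' : Q ((h : Matrix ι ι F) *ᵥ e) = 0 := by rw [hh, heQ]
  have h3 : polar ⇑Q ((h : Matrix ι ι F) *ᵥ e) (-f₁) = 0 := by
    have h2 : polar ⇑Q ((h : Matrix ι ι F) *ᵥ e) ((h : Matrix ι ι F) *ᵥ f) = 0 := by rw [polar_of_iso hh, hef]
    rw [hf12, polar_add_right, mem_polarPerp.1 hf₂ _ hhe, add_zero] at h2
    rw [polar_neg_right, h2, neg_zero]
  obtain ⟨p', q', hm'⟩ := rootIn_stab hQ hn hW hk hS hhe (W.neg_mem hf₁) hQ' h3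
  have h4 := h1.add ⟨p', q', hPM hm'⟩
  rw [hf12, show f₁ + f₂ + -f₁ = f₂ by abel] at h4
  refine ⟨_, f₂, hhe, fun h0 => he0 ?_, hQ', hf₂, fun h0 => hhf ?_, h4⟩
  · have := congrArg (fun z => ((h⁻¹ : GL ι F) : Matrix ι ι F) *ᵥ z) h0
    simpa using this
  · rw [hf12, h0, add_zero]; exact hf₁

omit hk hS in
/-- A vector of `W` orthogonal to all of `W` orthogonal to `e` is a multiple of `e`. -/
theorem mem_line_of_forall {e v : ι → F} (he : e ∈ W) (he0 : e ≠ 0) (hv : v ∈ W)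
    (h : ∀ f ∈ W, polar ⇑Q e f = 0 → polar ⇑Q v f = 0) : ∃ c : F, v = c • e := by
  by_contra hc
  push Not at hc
  obtain ⟨f, hf, hfi⟩ := exists_polar_in hQ hW
    ((LinearIndependent.pair_iff' he0).mpr fun c h => hc c h.symm : LinearIndependent F ![e, v])
    (fun i => by fin_cases i <;> simp [he, hv]) ![0, 1]
  have h1 : polar ⇑Q v f = 1 := hfi 1
  rw [h f hf (hfi 0)] at h1
  exact zero_ne_one h1

/-- A singular vector of `W` moved to a skew position gives a link, apart from one configuration. -/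
theorem link_or_config [Fintype F] (hPM : (Cfsg.Geo.subspaceStabilizer W ⊓ Cfsg.Geo.omegaGL ⇑Q) ≤ M) {g : GL ι F}
    (hgM : g ∈ M) (hg : ∀ y, Q ((g : Matrix ι ι F) *ᵥ y) = Q y) {z x₁ x₂ : ι → F} (hz : z ∈ W) (hzQ : Q z = 0)
    (hx₁ : x₁ ∈ W) (hx₂ : x₂ ∈ polarPerp Q W) (hx₁0 : x₁ ≠ 0) (hx₂0 : x₂ ≠ 0)
    (hgz : (g : Matrix ι ι F) *ᵥ z = x₁ + x₂) :
    Link Q W M ∨ (Fintype.card F = 2 ∧ Module.finrank F W = 4 ∧ Q x₁ ≠ 0 ∧
      ∃ a ∈ W, (g : Matrix ι ι F) *ᵥ a = x₁) := by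
  set x := x₁ + x₂ with hx
  have hinv : ∀ y, (g : Matrix ι ι F) *ᵥ (((g⁻¹ : GL ι F) : Matrix ι ι F) *ᵥ y) = y := fun y => by
    rw [mulVec_mulVec, Units.mul_inv, one_mulVec]
  have hxU : ∀ w ∈ W, polar ⇑Q x w = polar ⇑Q x₁ w := fun w hw => by
    rw [hx, polar_add_left, polar_comm _ x₂ w, mem_polarPerp.1 hx₂ w hw, add_zero]
  have hxW : x ∉ W := fun h => hx₂0 (Submodule.disjoint_def.1 (isCompl_polarPerp hQ hW).disjoint x₂
    (by simpa [hx] using W.sub_mem h hx₁) hx₂)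
  have hz0 : z ≠ 0 := fun h => hxW (by rw [← hgz, h, mulVec_zero]; exact W.zero_mem)
  obtain ⟨e', he', he'0, he'Q, he'x, he'i⟩ := exists_singular_perp hQ hn hW hS hx₁
  by_cases he'g : ((g⁻¹ : GL ι F) : Matrix ι ι F) *ᵥ e' ∈ W
  · left
    refine link_of_fixed hQ hn hW hk hS hPM hgM hg he'g (fun h => he'0 ?_) (by rw [← hg, hinv, he'Q]) hz ?_
      (by rw [hinv]; exact he') (by rw [hgz]; exact hxW)
    · rw [← hinv e', h, mulVec_zero]
    · rw [← polar_of_iso hg, hinv, hgz, polar_comm, hxU e' he', he'x]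
  obtain ⟨K, hKmem, hKd⟩ : ∃ K : Submodule F (ι → F), (∀ a, a ∈ K ↔ a ∈ W ∧ polar ⇑Q z a = 0 ∧
      polar ⇑Q e' ((g : Matrix ι ι F) *ᵥ a) = 0) ∧ Module.finrank F W ≤ Module.finrank F K + 2 := by
    let L := FormMax.OrthSL.conds Q ![z, ((g⁻¹ : GL ι F) : Matrix ι ι F) *ᵥ e']
    refine ⟨L.ker ⊓ W, fun a => ?_, ?_⟩
    · have he : polar ⇑Q e' ((g : Matrix ι ι F) *ᵥ a) = polar ⇑Q (((g⁻¹ : GL ι F) : Matrix ι ι F) *ᵥ e') a := by
        conv_lhs => rw [← hinv e']
        rw [polar_of_iso hg]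
      rw [Submodule.mem_inf, LinearMap.mem_ker, he]
      refine ⟨fun ⟨h1, h2⟩ => ⟨h2, FormMax.OrthSL.conds_eq h1 0, FormMax.OrthSL.conds_eq h1 1⟩, fun ⟨h1, h2, h3⟩ =>
        ⟨funext fun i => by fin_cases i <;> assumption, h1⟩⟩
    · have h1 := L.finrank_range_add_finrank_ker
      have h3 := Submodule.finrank_le L.range
      rw [Module.finrank_fin_fun] at h3
      have h4 := Submodule.finrank_sup_add_finrank_inf_eq L.ker W
      have h5 := Submodule.finrank_le (L.ker ⊔ W)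
      omega
  have hzK : z ∈ K := (hKmem z).2 ⟨hz, Orth.polar_self_zero hzQ, by rw [hgz, polar_comm, hxU e' he', he'x]⟩
  by_cases hlink : Link Q W M
  · exact Or.inl hlink
  right
  -- every admissible root element keeps `e'` and so keeps `W ⊓ e'⊥` inside `W`
  have hT : ∀ a ∈ K, ∀ f ∈ W, polar ⇑Q e' f = 0 →
      polar ⇑Q x f • ((g : Matrix ι ι F) *ᵥ a) - (polar ⇑Q ((g : Matrix ι ι F) *ᵥ a) f +
        Q ((g : Matrix ι ι F) *ᵥ a) * polar ⇑Q x f) • x ∈ W := by
    intro a ha f hf hef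
    obtain ⟨haW, hza, hea⟩ := (hKmem a).1 ha
    obtain ⟨p, q, hm⟩ := rootIn_stab hQ hn hW hk hS hz haW hzQ hza
    obtain ⟨hxQ, hxb, hTM⟩ := RootIn.map (M := M) hgM hg ⟨p, q, hPM hm⟩
    by_contra hout
    refine hlink (link_of_fixed hQ hn hW hk hS hPM hTM (Q_eichlerGL hxQ hxb) he' he'0 he'Q hf hef ?_ fun hin => hout ?_)
    · rw [eichlerGL_mulVec, hgz, hxU e' he', he'x, polar_comm, hea]
      simpa using he'
    · rw [eichlerGL_mulVec, add_sub_assoc, hgz] at hin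
      simpa using W.sub_mem hin hf
  have hli : LinearIndependent F ![x₁, e'] := (LinearIndependent.pair_iff' hx₁0).mpr fun c => he'i c
  obtain ⟨f₁, hf₁, hfi⟩ := exists_polar_in hQ hW hli (fun i => by fin_cases i <;> simp [hx₁, he']) ![1, 0]
  have hf₁x : polar ⇑Q x f₁ = 1 := by rw [hxU f₁ hf₁]; exact hfi 0
  have hf₁e : polar ⇑Q e' f₁ = 0 := hfi 1
  have hdec : ∀ a ∈ K, ∃ w ∈ W, ∃ l γ : F, (g : Matrix ι ι F) *ᵥ a = w + l • x ∧ w + Q w • x₁ = γ • e' := by
    intro a ha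
    obtain ⟨haW, hza, hea⟩ := (hKmem a).1 ha
    set b := (g : Matrix ι ι F) *ᵥ a with hb
    set l := polar ⇑Q b f₁ + Q b * polar ⇑Q x f₁ with hl
    have hw : b - l • x ∈ W := by
      have := hT a ha f₁ hf₁ hf₁e
      rwa [← hb, ← hl, hf₁x, one_smul] at this
    have hxb : polar ⇑Q x b = 0 := by rw [hb, ← hgz, polar_of_iso hg, hza]
    have hxQ : Q x = 0 := by rw [← hgz, hg, hzQ]
    have hQw : Q (b - l • x) = Q b := by
      rw [sub_eq_add_neg, QuadraticMap.map_add (⇑Q), QuadraticMap.map_neg, QuadraticMap.map_smul, hxQ,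
        polar_neg_right, polar_smul_right, polar_comm _ b x, hxb]
      simp
    obtain ⟨γ, hγ⟩ := mem_line_of_forall hQ hn hW he' he'0
      (W.add_mem hw (W.smul_mem (Q (b - l • x)) hx₁)) (fun f hf hef => by
        have h1 := hT a ha f hf hef
        rw [← hb] at h1
        have h2 := W.sub_mem h1 (W.smul_mem (polar ⇑Q x f) hw)
        have h3 : (polar ⇑Q x f * l - (polar ⇑Q b f + Q b * polar ⇑Q x f)) • x ∈ W := by
          convert h2 using 1
          module
        have h4 : polar ⇑Q x f * l - (polar ⇑Q b f + Q b * polar ⇑Q x f) = 0 := by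
          by_contra h0
          exact hxW ((W.smul_mem_iff h0).1 h3)
        rw [polar_add_left, polar_smul_left, ← hxU f hf, hQw, polar_sub_left, polar_smul_left, smul_eq_mul,
          smul_eq_mul]
        linear_combination -h4)
    exact ⟨_, hw, l, γ, by abel, hγ⟩
  have huniq : ∀ w w' : ι → F, w ∈ W → w' ∈ W → ∀ l l' : F, w + l • x = w' + l' • x → w = w' := by
    intro w w' hw hw' l l' h
    by_cases hll : l = l'
    · rw [hll] at h; exact add_right_cancel h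
    · have hm : (l - l') • x ∈ W := by
        rw [show (l - l') • x = w' - w by rw [sub_smul, sub_eq_sub_iff_add_eq_add, add_comm, h]]
        exact W.sub_mem hw' hw
      exact absurd ((W.smul_mem_iff (sub_ne_zero.2 hll)).1 hm) hxW
  have hx₁e : ∀ c γ : F, c • x₁ = γ • e' → c = 0 := fun c γ h => by
    by_contra hc
    refine he'i (γ⁻¹ * c) ?_
    have hγ : γ ≠ 0 := fun h0 => by
      rw [h0, zero_smul, smul_eq_zero] at h
      exact h.elim hc hx₁0
    rw [← smul_smul, h, inv_smul_smul₀ hγ]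
  have hne : ∀ a ∈ K, (∀ c : F, a ≠ c • z) → ∀ w ∈ W, ∀ l γ : F, (g : Matrix ι ι F) *ᵥ a = w + l • x →
      w + Q w • x₁ = γ • e' → Q w ≠ 0 := by
    intro a ha haz w hw l γ he hγ hw0
    rw [hw0, zero_smul, add_zero] at hγ
    have hga : (g : Matrix ι ι F) *ᵥ (a - l • z) = γ • e' := by
      rw [mulVec_sub, mulVec_smul, hgz, he, hγ, add_sub_cancel_right]
    have hmem : ((g⁻¹ : GL ι F) : Matrix ι ι F) *ᵥ (γ • e') = a - l • z := by
      rw [← hga, mulVec_mulVec, Units.inv_mul, one_mulVec]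
    by_cases hγ0 : γ = 0
    · rw [hγ0, zero_smul, mulVec_zero] at hmem
      exact haz l (sub_eq_zero.1 hmem.symm)
    · refine he'g ((W.smul_mem_iff hγ0).1 ?_)
      rw [← mulVec_smul, hmem]
      exact W.sub_mem ((hKmem a).1 ha).1 (W.smul_mem _ hz)
  obtain ⟨a, ha, haz⟩ : ∃ a ∈ K, ∀ c : F, a ≠ c • z := by
    by_contra h
    push Not at h
    have h1 := Submodule.finrank_mono (show K ≤ F ∙ z from fun a ha => by
      obtain ⟨c, rfl⟩ := h a ha
      exact Submodule.smul_mem _ _ (Submodule.mem_span_singleton_self z))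
    rw [finrank_span_singleton hz0] at h1
    omega
  obtain ⟨w, hw, l, γ, hwb, hwγ⟩ := hdec a ha
  have hQw := hne a ha haz w hw l γ hwb hwγ
  have hcard : Fintype.card F = 2 := by
    by_contra hc
    classical
    obtain ⟨s, hs⟩ : ∃ s : F, s ∉ ({0, 1} : Finset F) := by
      by_contra h
      push Not at h
      have h1 := Finset.card_le_card (fun a _ => h a : Finset.univ ⊆ ({0, 1} : Finset F))
      rw [Finset.card_univ, Finset.card_pair (zero_ne_one (α := F))] at h1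
      exact hc (le_antisymm h1 Fintype.one_lt_card)
    simp only [Finset.mem_insert, Finset.mem_singleton, not_or] at hs
    obtain ⟨w', hw', l', γ', hwb', hwγ'⟩ := hdec (s • a) (K.smul_mem s ha)
    have e : w' = s • w := huniq w' (s • w) hw' (W.smul_mem s hw) l' (s * l) (by
      rw [← hwb', mulVec_smul, hwb, smul_add, smul_smul])
    rw [e, QuadraticMap.map_smul, smul_eq_mul] at hwγ'
    have h2 := hx₁e ((s * s - s) * Q w) (γ' - s * γ) (by
      calc ((s * s - s) * Q w) • x₁ = (s • w + (s * s * Q w) • x₁) - s • (w + Q w • x₁) := by module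
        _ = γ' • e' - s • (γ • e') := by rw [hwγ', hwγ]
        _ = _ := by module)
    rcases mul_eq_zero.1 h2 with h3 | h3
    · rw [show s * s - s = s * (s - 1) by ring, mul_eq_zero, sub_eq_zero] at h3
      exact h3.elim hs.1 hs.2
    · exact hQw h3
  haveI := Forms.charP_two_of_not_odd (F := F) (by rw [hcard]; decide)
  have hone : ∀ c : F, c ≠ 0 → c = 1 := fun c hc => by
    by_contra h1
    classical
    have h2 := Finset.card_le_univ ({0, 1, c} : Finset F)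
    have h3 : ({0, 1, c} : Finset F).card = 3 := by
      rw [Finset.card_insert_of_notMem (by simp [Ne.symm hc]), Finset.card_pair (Ne.symm h1)]
    omega
  rw [hone _ hQw, one_smul] at hwγ
  have hdim : Module.finrank F W = 4 := by
    by_contra hd
    obtain ⟨a', ha', ha'z⟩ : ∃ a' ∈ K, a' ∉ Submodule.span F (Set.range ![z, a]) := by
      by_contra h
      push Not at h
      have h1 := Submodule.finrank_mono (show K ≤ Submodule.span F (Set.range ![z, a]) from h)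
      have h2 : Module.finrank F (Submodule.span F (Set.range ![z, a])) ≤ 2 := by
        simpa [Set.finrank] using finrank_range_le_card (R := F) ![z, a]
      omega
    have hzs : z ∈ Submodule.span F (Set.range ![z, a]) := Submodule.subset_span ⟨0, rfl⟩
    have has : a ∈ Submodule.span F (Set.range ![z, a]) := Submodule.subset_span ⟨1, rfl⟩
    have haz' : ∀ c : F, a' ≠ c • z := fun c h => ha'z (h ▸ Submodule.smul_mem _ c hzs)
    have haaz : ∀ c : F, a + a' ≠ c • z := fun c h => ha'z (by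
      rw [show a' = c • z - a by rw [← h]; abel]
      exact Submodule.sub_mem _ (Submodule.smul_mem _ c hzs) has)
    obtain ⟨w', hw', l', γ', hwb', hwγ'⟩ := hdec a' ha'
    obtain ⟨w'', hw'', l'', γ'', hwb'', hwγ''⟩ := hdec (a + a') (K.add_mem ha ha')
    have hQw' := hne a' ha' haz' w' hw' l' γ' hwb' hwγ'
    have hQw'' := hne _ (K.add_mem ha ha') haaz w'' hw'' l'' γ'' hwb'' hwγ''
    rw [hone _ hQw', one_smul] at hwγ'
    rw [hone _ hQw'', one_smul, huniq w'' (w + w') hw'' (W.add_mem hw hw') l'' (l + l')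
      (by rw [← hwb'', mulVec_add, hwb, hwb']; module)] at hwγ''
    exact one_ne_zero (hx₁e 1 (γ + γ' - γ'') (by
      calc (1 : F) • x₁ = (w + x₁) + (w' + x₁) - (w + w' + x₁) := by module
        _ = _ := by rw [hwγ, hwγ', hwγ'']; module))
  have hwe : w = γ • e' - x₁ := eq_sub_of_add_eq hwγ
  have hQ1 : Q w = Q x₁ := by
    rw [hwe, sub_eq_add_neg, QuadraticMap.map_add (⇑Q), QuadraticMap.map_neg, QuadraticMap.map_smul, he'Q,
      polar_neg_right, polar_smul_left, polar_comm _ e' x₁, he'x]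
    simp
  have hgw : (g : Matrix ι ι F) *ᵥ (a - l • z) = w := by rw [mulVec_sub, mulVec_smul, hgz, hwb, add_sub_cancel_right]
  have haz' : a - l • z ∈ K := K.sub_mem ha (K.smul_mem l hzK)
  by_cases hγ : γ = 0
  · refine ⟨hcard, hdim, hQ1 ▸ hQw, -(a - l • z), W.neg_mem ((hKmem _).1 haz').1, ?_⟩
    rw [mulVec_neg, hgw, hwe, hγ, zero_smul, zero_sub, neg_neg]
  exfalso
  obtain ⟨e'', he'', he''0, he''Q, hee, he''i⟩ := exists_singular_perp hQ hn hW hS he'
  obtain ⟨f, hf, hfi'⟩ := exists_polar_in hQ hW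
    ((LinearIndependent.pair_iff' he'0).mpr he''i : LinearIndependent F ![e', e''])
    (fun i => by fin_cases i <;> simp [he', he'']) ![1, 0]
  have hfe' : polar ⇑Q e' f = 1 := hfi' 0
  have hfe'' : polar ⇑Q e'' f = 0 := hfi' 1
  obtain ⟨p, q, hm⟩ := rootIn_stab hQ hn hW hk hS hz ((hKmem _).1 haz').1 hzQ ((hKmem _).1 haz').2.1
  obtain ⟨hxQ, hxb, hTM⟩ := RootIn.map (M := M) hgM hg ⟨p, q, hPM hm⟩
  have hU : ∀ v ∈ W, (eichlerGL Q _ _ hxQ hxb : Matrix ι ι F) *ᵥ v
      = v + polar ⇑Q x₁ v • w - (γ * polar ⇑Q e' v) • x := by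
    intro v hv
    rw [eichlerGL_mulVec, hgz, hgw, hxU v hv, hQ1]
    congr 2
    rw [hwe, polar_sub_left, polar_smul_left, hone _ (hQ1 ▸ hQw : Q x₁ ≠ 0), smul_eq_mul]
    ring
  refine hlink (link_of_fixed hQ hn hW hk hS hPM hTM (Q_eichlerGL hxQ hxb) he'' he''0 he''Q hf hfe'' ?_ fun hin => ?_)
  · rw [hU e'' he'', hee, mul_zero, zero_smul, sub_zero]
    exact W.add_mem he'' (W.smul_mem _ hw)
  · rw [hU f hf, hfe', mul_one] at hin
    refine hxW ((W.smul_mem_iff hγ).1 ?_)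
    simpa using W.sub_mem (W.add_mem hf (W.smul_mem (polar ⇑Q x₁ f) hw)) hin

omit hk hS in
/-- Over two elements one may fix `W` pointwise inside the commutator subgroup. -/
theorem exists_omega_fix [Fintype F] (hcard : Fintype.card F = 2) (h : ↥(Cfsg.isometryGroup F ⇑Q))
    (hhW : ∀ a ∈ W, ((h : GL ι F) : Matrix ι ι F) *ᵥ a = a) {p : ι → F} (hp : p ∈ polarPerp Q W) (hpQ : Q p ≠ 0) :
    ∃ g ∈ Cfsg.Geo.omegaGL ⇑Q, (∀ a ∈ W, (g : Matrix ι ι F) *ᵥ a = a) ∧
      ∀ y, polar ⇑Q (((h : GL ι F) : Matrix ι ι F) *ᵥ y) p = 0 →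
        (g : Matrix ι ι F) *ᵥ y = ((h : GL ι F) : Matrix ι ι F) *ᵥ y := by
  have hone : ∀ c : F, c ≠ 0 → c = 1 := fun c hc => by
    by_contra h1
    classical
    have h2 := Finset.card_le_univ ({0, 1, c} : Finset F)
    have h3 : ({0, 1, c} : Finset F).card = 3 := by
      rw [Finset.card_insert_of_notMem (by simp [Ne.symm hc]), Finset.card_pair (Ne.symm h1)]
    omega
  set r := Abelianization.of (Forms.reflElem hpQ) with hr
  have hclass : ∀ x : ↥(Cfsg.isometryGroup F ⇑Q), Abelianization.of x = 1 ∨ Abelianization.of x = r := by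
    intro x
    induction x using Forms.isometry_induction hQ (Or.inr (by omega)) with
    | h1 => exact Or.inl (map_one _)
    | hr v hv g hg =>
      obtain ⟨c, hc⟩ := Forms.exists_conj_reflElem hQ hpQ hv (by rw [hone _ hv, hone _ hpQ])
      have hv' : Abelianization.of (Forms.reflElem hv) = r := by
        rw [← hc, map_mul, map_mul, map_inv, mul_comm (Abelianization.of c), mul_inv_cancel_right, hr]
      rcases hg with hg | hg
      · exact Or.inr (by rw [map_mul, hg, hv', mul_one])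
      · refine Or.inl ?_
        rw [map_mul, hg, hv', hr, ← map_mul]
        rw [show Forms.reflElem hpQ * Forms.reflElem hpQ = 1 from Forms.reflElem_mul_self hpQ, map_one]
  rcases hclass h with hc | hc
  · exact ⟨_, Subgroup.mem_map_of_mem _ ((QuotientGroup.eq_one_iff _).1 hc), hhW, fun y _ => rfl⟩
  · have hm : Forms.reflElem hpQ * h ∈ Cfsg.Omega F ⇑Q := by
      refine (QuotientGroup.eq_one_iff _).1 ?_
      show Abelianization.of (Forms.reflElem hpQ * h) = 1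
      rw [map_mul, hc, hr, ← map_mul, Forms.reflElem_mul_self hpQ, map_one]
    refine ⟨_, Subgroup.mem_map_of_mem _ hm, fun a ha => ?_, fun y hy => ?_⟩
    · rw [Subgroup.coe_subtype, Subgroup.coe_mul, Units.val_mul, ← mulVec_mulVec, hhW a ha,
        Forms.reflElem_mulVec, polar_comm _ p a, mem_polarPerp.1 hp a ha]
      simp
    · rw [Subgroup.coe_subtype, Subgroup.coe_mul, Units.val_mul, ← mulVec_mulVec, Forms.reflElem_mulVec,
        polar_comm _ p, hy]
      simp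

/-- The exceptional configuration over two elements does not occur. -/
theorem config_false [Fintype F] (hPM : (Cfsg.Geo.subspaceStabilizer W ⊓ Cfsg.Geo.omegaGL ⇑Q) ≤ M)
    (hMK : M ≤ Cfsg.Geo.omegaGL ⇑Q) (hnl : ¬ Link Q W M) (hcard : Fintype.card F = 2)
    (hdim : Module.finrank F W = 4) (h8 : Fintype.card ι = 8)
    (hU2 : ∀ S ≤ polarPerp Q W, Cfsg.Geo.IsTotallySingularQuad (⇑Q) S → Module.finrank F S ≤ 1)
    {g : GL ι F} (hgM : g ∈ M) {z x₁ x₂ : ι → F} (hz : z ∈ W) (hzQ : Q z = 0) (hx₁ : x₁ ∈ W)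
    (hx₂ : x₂ ∈ polarPerp Q W) (hx₁0 : x₁ ≠ 0) (hx₂0 : x₂ ≠ 0) (hgz : (g : Matrix ι ι F) *ᵥ z = x₁ + x₂) :
    False := by
  haveI := Forms.charP_two_of_not_odd (F := F) (by rw [hcard]; decide)
  have htwo : ∀ a : F, a + a = 0 := CharTwo.add_self_eq_zero
  have hone : ∀ c : F, c ≠ 0 → c = 1 := fun c hc => by
    by_contra h1
    classical
    have h2 := Finset.card_le_univ ({0, 1, c} : Finset F)
    have h3 : ({0, 1, c} : Finset F).card = 3 := by
      rw [Finset.card_insert_of_notMem (by simp [Ne.symm hc]), Finset.card_pair (Ne.symm h1)]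
    omega
  have hiso : ∀ k ∈ M, ∀ y, Q ((k : Matrix ι ι F) *ᵥ y) = Q y := fun k hk y => by
    obtain ⟨k', -, rfl⟩ := hMK hk
    exact Orth.mem_isometryGroup_iff.1 k'.2 y
  have hg := hiso g hgM
  have hpp : ∀ v, polar ⇑Q v v = 0 := fun v => by
    rw [polar_self, two_nsmul, htwo]
  have hWU : ∀ a ∈ W, ∀ b ∈ polarPerp Q W, polar ⇑Q a b = 0 := fun a ha b hb => mem_polarPerp.1 hb a ha
  have hUW : ∀ b ∈ polarPerp Q W, ∀ a ∈ W, polar ⇑Q b a = 0 := fun b hb a ha => by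
    rw [polar_comm, hWU a ha b hb]
  have hinj : ∀ {k : GL ι F} {a b : ι → F}, (k : Matrix ι ι F) *ᵥ a = (k : Matrix ι ι F) *ᵥ b → a = b :=
    fun {k a b} h => by
      have := congrArg (fun y => ((k⁻¹ : GL ι F) : Matrix ι ι F) *ᵥ y) h
      simpa using this
  -- the image of `W` splits along `W` and its complement
  set gW := W.map (Matrix.mulVecLin (g : Matrix ι ι F)) with hgW
  have hmemgW : ∀ a ∈ W, (g : Matrix ι ι F) *ᵥ a ∈ gW := fun a ha => Submodule.mem_map_of_mem ha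
  obtain ⟨e, he, he0, heQ⟩ := exists_singular_point hQ hn hW hS
  have hdecomp : ∀ a ∈ W, ∃ y₁ y₂, y₁ ∈ gW ∧ y₁ ∈ W ∧ y₂ ∈ gW ∧ y₂ ∈ polarPerp Q W ∧
      (g : Matrix ι ι F) *ᵥ a = y₁ + y₂ := by
    intro a ha
    have hle : W ≤ ((gW ⊓ W) ⊔ (gW ⊓ polarPerp Q W)).comap (Matrix.mulVecLin (g : Matrix ι ι F)) := by
      refine (le_span_singular hQ hW he he0 heQ).trans (Submodule.span_le.2 ?_)
      rintro s ⟨hs, hsQ⟩
      show (g : Matrix ι ι F) *ᵥ s ∈ (gW ⊓ W) ⊔ (gW ⊓ polarPerp Q W)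
      obtain ⟨y₁, hy₁, y₂, hy₂, hy⟩ := exists_split hQ hW ((g : Matrix ι ι F) *ᵥ s)
      have hm : y₁ ∈ gW := by
        by_cases h1 : y₁ = 0
        · rw [h1]; exact gW.zero_mem
        by_cases h2 : y₂ = 0
        · rw [h2, add_zero] at hy
          exact hy ▸ hmemgW s hs
        rcases link_or_config hQ hn hW hk hS hPM hgM hg hs hsQ hy₁ hy₂ h1 h2 hy with h | ⟨-, -, -, b, hb, hb1⟩
        · exact absurd h hnl
        · exact hb1 ▸ hmemgW b hb
      rw [hy]
      refine Submodule.add_mem_sup ⟨hm, hy₁⟩ ⟨?_, hy₂⟩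
      rw [show y₂ = (g : Matrix ι ι F) *ᵥ s - y₁ by rw [hy]; abel]
      exact gW.sub_mem (hmemgW s hs) hm
    obtain ⟨y₁, h1, y₂, h2, h⟩ := Submodule.mem_sup.1 (hle ha)
    exact ⟨y₁, y₂, h1.1, h1.2, h2.1, h2.2, h.symm⟩
  rcases link_or_config hQ hn hW hk hS hPM hgM hg hz hzQ hx₁ hx₂ hx₁0 hx₂0 hgz with h | ⟨-, -, hQx₁, a₁, ha₁, hga₁⟩
  · exact hnl h
  have hQ1 : Q x₁ = 1 := hone _ hQx₁
  have hQ2 : Q x₂ = 1 := by
    have h : Q (x₁ + x₂) = 0 := by rw [← hgz, hg, hzQ]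
    rw [QuadraticMap.map_add (⇑Q), hWU x₁ hx₁ x₂ hx₂, add_zero, hQ1, CharTwo.add_eq_zero] at h
    exact h.symm
  have hxW : x₁ + x₂ ∉ W := fun h => hx₂0 (Submodule.disjoint_def.1 (isCompl_polarPerp hQ hW).disjoint x₂
    (by simpa using W.sub_mem h hx₁) hx₂)
  have hnons : ∀ a ∈ W, a ≠ 0 → Q a = 0 → (g : Matrix ι ι F) *ᵥ a ∉ W := by
    intro a ha ha0 haQ hga
    have hf : ∀ f ∈ W, polar ⇑Q a f = 0 → (g : Matrix ι ι F) *ᵥ f ∈ W := fun f hf haf => by
      by_contra hgf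
      exact hnl (link_of_fixed hQ hn hW hk hS hPM hgM hg ha ha0 haQ hf haf hga hgf)
    have haz : polar ⇑Q a z = 1 := hone _ fun h => hxW (hgz ▸ hf z hz h)
    have hw0 : z - a₁ ≠ 0 := fun h => hx₂0 (by
      have := congrArg (fun y => (g : Matrix ι ι F) *ᵥ y) h
      simpa [mulVec_sub, hgz, hga₁] using this)
    obtain ⟨-, w, hw, hne⟩ := hW _ (W.sub_mem hz ha₁) hw0
    refine hne ?_
    set t := polar ⇑Q a w with ht
    have hh := hf (w - t • z) (W.sub_mem hw (W.smul_mem _ hz)) (by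
      rw [polar_sub_right, polar_smul_right, haz, smul_eq_mul, mul_one, sub_self])
    rw [← polar_of_iso hg, mulVec_sub, hgz, hga₁, add_sub_cancel_left,
      show w = (w - t • z) + t • z by abel, mulVec_add, mulVec_smul, hgz, polar_add_right, hUW x₂ hx₂ _ hh,
      polar_smul_right, polar_add_right, hUW x₂ hx₂ x₁ hx₁, hpp]
    simp
  -- partners of the two parts
  obtain ⟨a', ha'g, ha', hx₁a, hQa, b', hb'g, hb', hx₂b⟩ : ∃ a', a' ∈ gW ∧ a' ∈ W ∧ polar ⇑Q x₁ a' = 1 ∧ Q a' = 1 ∧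
      ∃ b', b' ∈ gW ∧ b' ∈ polarPerp Q W ∧ polar ⇑Q x₂ b' = 1 := by
    have key : ∀ a ∈ W, (g : Matrix ι ι F) *ᵥ a ≠ 0 → ∃ y₁ y₂, y₁ ∈ gW ∧ y₁ ∈ W ∧ y₂ ∈ gW ∧ y₂ ∈ polarPerp Q W ∧
        polar ⇑Q ((g : Matrix ι ι F) *ᵥ a) (y₁ + y₂) = 1 := by
      intro a ha ha0
      obtain ⟨-, w, hw, hne⟩ := hW a ha (fun h => ha0 (by rw [h, mulVec_zero]))
      obtain ⟨y₁, y₂, h1, h2, h3, h4, h⟩ := hdecomp w hw
      exact ⟨y₁, y₂, h1, h2, h3, h4, by rw [← h, polar_of_iso hg]; exact hone _ hne⟩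
    obtain ⟨y₁, y₂, h1, h2, -, h4, h⟩ := key a₁ ha₁ (by rw [hga₁]; exact hx₁0)
    rw [hga₁, polar_add_right, hWU x₁ hx₁ y₂ h4, add_zero] at h
    obtain ⟨z₁, z₂, -, k2, k3, k4, k⟩ := key (z - a₁) (W.sub_mem hz ha₁)
      (by rw [mulVec_sub, hgz, hga₁, add_sub_cancel_left]; exact hx₂0)
    rw [mulVec_sub, hgz, hga₁, add_sub_cancel_left, polar_add_right, hUW x₂ hx₂ z₁ k2, zero_add] at k
    refine ⟨y₁, h1, h2, h, hone _ fun hy0 => ?_, z₂, k3, k4, k⟩
    obtain ⟨a, ha, hga⟩ := Submodule.mem_map.1 h1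
    have hga' : (g : Matrix ι ι F) *ᵥ a = y₁ := hga
    refine hnons a ha (fun h0 => ?_) (by rw [← hg, hga', hy0]) (hga' ▸ h2)
    rw [h0, mulVec_zero] at hga'
    rw [← hga', polar_zero_right] at h
    exact zero_ne_one h
  -- the four vectors span the image
  have hli : LinearIndependent F ![x₁, a', x₂, b'] := by
    rw [Fintype.linearIndependent_iff]
    intro c hc
    have hp := fun v => congrArg (fun y => polar ⇑Q v y) hc
    simp only [Fin.sum_univ_four, polar_add_right, polar_smul_right, smul_eq_mul, polar_zero_right] at hp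
    have e0 := hp a'
    have e1 := hp x₁
    have e2 := hp b'
    have e3 := hp x₂
    simp [hpp, hWU _ hx₁ _ hx₂, hWU _ hx₁ _ hb', hWU _ ha' _ hx₂, hWU _ ha' _ hb', hUW _ hx₂ _ hx₁,
      hUW _ hx₂ _ ha', hUW _ hb' _ hx₁, hUW _ hb' _ ha', hx₁a, hx₂b,
      polar_comm _ a' x₁, polar_comm _ b' x₂] at e0 e1 e2 e3
    intro i
    fin_cases i <;> assumption
  have hgWd : Module.finrank F gW = 4 := by
    rw [hgW, ← (Submodule.equivMapOfInjective _ (fun a b h => hinj h) W).finrank_eq, hdim]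
  have hspan : Submodule.span F (Set.range ![x₁, a', x₂, b']) = gW := by
    refine Submodule.eq_of_le_of_finrank_eq (Submodule.span_le.2 ?_) (by
      rw [finrank_span_eq_card hli, hgWd]; rfl)
    rintro _ ⟨i, rfl⟩
    fin_cases i
    · exact hga₁ ▸ hmemgW a₁ ha₁
    · exact ha'g
    · show x₂ ∈ gW
      rw [show x₂ = (g : Matrix ι ι F) *ᵥ (z - a₁) by rw [mulVec_sub, hgz, hga₁, add_sub_cancel_left]]
      exact hmemgW _ (W.sub_mem hz ha₁)
    · exact hb'g
  have hcoord : ∀ y ∈ gW, ∃ p r s t : F, y = p • x₁ + r • a' + s • x₂ + t • b' := by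
    intro y hy
    rw [← hspan, Submodule.mem_span_range_iff_exists_fun] at hy
    obtain ⟨c, rfl⟩ := hy
    exact ⟨c 0, c 1, c 2, c 3, by simp [Fin.sum_univ_four]⟩
  obtain ⟨wb, hwb, hgwb⟩ := Submodule.mem_map.1 hb'g
  obtain ⟨wa, hwa, hgwa⟩ := Submodule.mem_map.1 ha'g
  rw [Matrix.mulVecLin_apply] at hgwb hgwa
  have hQb : Q b' = 1 := hone _ fun hb0 => by
    have hwx : (g : Matrix ι ι F) *ᵥ (z - a₁ + wb) = x₂ + b' := by
      rw [mulVec_add, mulVec_sub, hgz, hga₁, hgwb, add_sub_cancel_left]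
    obtain ⟨v, hv, hv0, hvQ, h1, h2⟩ := exists_singular_pair hQ hn hW hS hwb (W.add_mem (W.sub_mem hz ha₁) hwb)
      (by rw [← hg, hgwb, hb0])
      (by rw [← hg, hwx, QuadraticMap.map_add (⇑Q), hQ2, hb0, hx₂b, add_zero, htwo])
      (by rw [← polar_of_iso hg, hgwb, hwx, polar_add_right, hpp, add_zero, polar_comm, hx₂b])
    rw [← polar_of_iso hg, hwx, polar_add_left] at h2
    rw [← polar_of_iso hg, hgwb] at h1
    rw [h1, add_zero] at h2
    obtain ⟨p, r, s, t, hgv⟩ := hcoord _ (hmemgW v hv)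
    rw [hgv] at h1 h2
    simp [polar_add_right, polar_smul_right, hpp, hUW _ hx₂ _ hx₁, hUW _ hx₂ _ ha', hUW _ hb' _ hx₁,
      hUW _ hb' _ ha', hx₂b, polar_comm _ b' x₂] at h1 h2
    refine hnons v hv hv0 hvQ ?_
    rw [hgv, h1, h2]
    simpa using W.add_mem (W.smul_mem p hx₁) (W.smul_mem r ha')
  -- the orthogonal of the second part inside the complement
  obtain ⟨C, hCmem, hCd⟩ : ∃ C : Submodule F (ι → F), (∀ y, y ∈ C ↔ y ∈ polarPerp Q W ∧ polar ⇑Q x₂ y = 0 ∧
      polar ⇑Q b' y = 0) ∧ 2 ≤ Module.finrank F C := by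
    let L := FormMax.OrthSL.conds Q ![x₂, b']
    refine ⟨L.ker ⊓ polarPerp Q W, fun y => ?_, ?_⟩
    · rw [Submodule.mem_inf, LinearMap.mem_ker]
      exact ⟨fun ⟨h1, h2⟩ => ⟨h2, FormMax.OrthSL.conds_eq h1 0, FormMax.OrthSL.conds_eq h1 1⟩,
        fun ⟨h1, h2, h3⟩ => ⟨funext fun i => by fin_cases i <;> assumption, h1⟩⟩
    · have h1 := L.finrank_range_add_finrank_ker
      have h3 := Submodule.finrank_le L.range
      rw [Module.finrank_fin_fun] at h3
      have h4 := Submodule.finrank_sup_add_finrank_inf_eq L.ker (polarPerp Q W)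
      have h5 := Submodule.finrank_le (L.ker ⊔ polarPerp Q W)
      rw [Module.finrank_fintype_fun_eq_card] at h1 h5
      have h6 := finrank_polarPerp hQ W
      omega
  obtain ⟨s, hs, hs0, hsQ⟩ : ∃ s ∈ C, s ≠ 0 ∧ Q s = 0 := by
    by_contra hno
    push Not at hno
    obtain ⟨c, hc, hc0⟩ := C.ne_bot_iff.mp fun h => by rw [h, finrank_bot] at hCd; omega
    obtain ⟨d, hd, hdc⟩ := SetLike.not_le_iff_exists.1 (fun h : C ≤ F ∙ c => by
      have := Submodule.finrank_mono h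
      rw [finrank_span_singleton hc0] at this
      omega)
    have hd0 : d ≠ 0 := fun h => hdc (h ▸ Submodule.zero_mem _)
    have hcd0 : c + d ≠ 0 := fun h => hdc (by
      rw [eq_neg_of_add_eq_zero_right h]
      exact Submodule.neg_mem _ (Submodule.mem_span_singleton_self c))
    have hQc := hone _ (hno c hc hc0)
    have hQd := hone _ (hno d hd hd0)
    have hcd : polar ⇑Q c d = 1 := hone _ fun h => hno (c + d) (C.add_mem hc hd) hcd0 (by
      rw [QuadraticMap.map_add (⇑Q), hQc, hQd, h, add_zero, htwo])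
    obtain ⟨hcU, hc2, hcb⟩ := (hCmem c).1 hc
    obtain ⟨hdU, hd2, hdb⟩ := (hCmem d).1 hd
    have hli2 : LinearIndependent F ![x₂ + c, b' + d] := by
      rw [Fintype.linearIndependent_iff]
      intro k hk2
      have hp := fun v => congrArg (fun y => polar ⇑Q v y) hk2
      simp only [Fin.sum_univ_two, polar_add_right, polar_smul_right, smul_eq_mul, polar_zero_right] at hp
      have e0 := hp b'
      have e1 := hp x₂
      simp [polar_add_right, hpp, hc2, hcb, hd2, hdb, hx₂b, polar_comm _ b' x₂] at e0 e1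
      intro i
      fin_cases i <;> assumption
    have h := hU2 (Submodule.span F (Set.range ![x₂ + c, b' + d])) (Submodule.span_le.2 (by
      rintro _ ⟨i, rfl⟩
      fin_cases i
      · exact Submodule.add_mem _ hx₂ hcU
      · exact Submodule.add_mem _ hb' hdU)) (by
      intro y hy
      rw [Submodule.mem_span_range_iff_exists_fun] at hy
      obtain ⟨k, rfl⟩ := hy
      simp [Fin.sum_univ_two, QuadraticMap.map_add (⇑Q), polar_smul_left, polar_smul_right, QuadraticMap.map_smul,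
        polar_add_left, polar_add_right, hQ2, hQb, hQc, hQd, hc2, hd2, hdb, hcd, hx₂b, htwo,
        polar_comm _ c b', hcb])
    rw [finrank_span_eq_card hli2, Fintype.card_fin] at h
    omega
  obtain ⟨hsU, hs2, hsb⟩ := (hCmem s).1 hs
  obtain ⟨c, hc, hQc, hcs⟩ : ∃ c ∈ C, Q c = 1 ∧ polar ⇑Q c s = 1 := by
    obtain ⟨⟨r, hr, hne⟩, -⟩ := nondegenerateOn_polarPerp hQ hW s hsU hs0
    have hr1 := hone _ hne
    set r' := r + polar ⇑Q r b' • x₂ + polar ⇑Q r x₂ • b' with hr'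
    have hrC : r' ∈ C := (hCmem r').2 ⟨Submodule.add_mem _ (Submodule.add_mem _ hr (Submodule.smul_mem _ _ hx₂))
      (Submodule.smul_mem _ _ hb'), by
        simp [hr', polar_add_right, polar_smul_right, hpp, hx₂b, polar_comm _ x₂ r, htwo], by
        simp [hr', polar_add_right, polar_smul_right, hpp, hx₂b, polar_comm _ b' x₂, polar_comm _ b' r, htwo]⟩
    have hrs : polar ⇑Q r' s = 1 := by
      simp [hr', polar_add_left, polar_smul_left, hs2, hsb, hr1]
    by_cases h : Q r' = 0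
    · refine ⟨r' + s, C.add_mem hrC hs, ?_, by rw [polar_add_left, hrs, hpp, add_zero]⟩
      rw [QuadraticMap.map_add (⇑Q), h, hsQ, hrs, zero_add, zero_add]
    · exact ⟨r', hrC, hone _ h, hrs⟩
  obtain ⟨hcU, hc2, hcb⟩ := (hCmem c).1 hc
  -- move the second part into skew position
  have hQd' : Q (x₂ + s) = 1 := by rw [QuadraticMap.map_add (⇑Q), hQ2, hsQ, hs2, add_zero, add_zero]
  have hcd' : polar ⇑Q c (x₂ + s) = 1 := by rw [polar_add_right, polar_comm _ c x₂, hc2, hcs, zero_add]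
  have hpair : ∀ {u v : ι → F}, polar ⇑Q u v = 1 → LinearIndependent F ![u, v] := fun {u v} huv => by
    refine (LinearIndependent.pair_iff' fun h => ?_).mpr fun k h => ?_
    · rw [h, polar_zero_left] at huv
      exact zero_ne_one huv
    · rw [← h, polar_smul_right, hpp, smul_zero] at huv
      exact zero_ne_one huv
  obtain ⟨h₀, hh₀W, -, hh₀v⟩ := exists_iso_map hQ hn hW (k := 2) (v := ![x₂, b']) (w := ![c, x₂ + s])
    (fun i => by fin_cases i <;> assumption)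
    (fun i => by fin_cases i <;> simp [hcU, Submodule.add_mem _ hx₂ hsU])
    (hpair hx₂b) (hpair hcd') (fun i => by fin_cases i <;> simp [hQ2, hQb, hQc, hQd'])
    (fun i j => by
      fin_cases i <;> fin_cases j <;>
        simp [hpp, hx₂b, hcd', polar_comm _ b' x₂, polar_comm _ (x₂ + s) c])
  obtain ⟨h, hhΩ, hhW, hhy⟩ := exists_omega_fix hQ hn hW hcard h₀ hh₀W hx₂ (by rw [hQ2]; exact one_ne_zero)
  have hhx₂ : (h : Matrix ι ι F) *ᵥ x₂ = c := by
    have e : ((h₀ : GL ι F) : Matrix ι ι F) *ᵥ x₂ = c := hh₀v 0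
    rw [hhy _ (by rw [e, polar_comm, hc2]), e]
  have hhb' : (h : Matrix ι ι F) *ᵥ b' = x₂ + s := by
    have e : ((h₀ : GL ι F) : Matrix ι ι F) *ᵥ b' = x₂ + s := hh₀v 1
    rw [hhy _ (by rw [e, polar_add_left, hpp, polar_comm _ s x₂, hs2, add_zero]), e]
  have hhM : h ∈ M := hPM (mem_stab_of hQ hn hW hk hS hhΩ fun a ha => by rw [hhW a ha]; exact ha)
  have hwn : polar ⇑Q z (wa + wb) = 0 := by
    rw [← polar_of_iso hg, hgz, mulVec_add, hgwa, hgwb]
    simp [polar_add_left, polar_add_right, hWU _ hx₁ _ hb', hUW _ hx₂ _ ha', hx₁a, hx₂b, htwo]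
  obtain ⟨p₁, q₁, hm⟩ := rootIn_stab hQ hn hW hk hS hz (W.add_mem hwa hwb) hzQ hwn
  have hroot := (RootIn.map (M := M) hgM hg ⟨p₁, q₁, hPM hm⟩).map hhM (hiso h hhM)
  rw [hgz, mulVec_add (g : Matrix ι ι F), hgwa, hgwb, mulVec_add, mulVec_add, hhW x₁ hx₁, hhW a' ha', hhx₂,
    hhb'] at hroot
  obtain ⟨hXQ, hXY, hTM⟩ := hroot
  have hQY : Q (a' + (x₂ + s)) = 0 := by
    rw [QuadraticMap.map_add (⇑Q), hQa, hQd', hWU _ ha' _ (Submodule.add_mem _ hx₂ hsU), add_zero, htwo]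
  set T := eichlerGL Q (x₁ + c) (a' + (x₂ + s)) hXQ hXY with hT
  have hTx₂ : (T : Matrix ι ι F) *ᵥ x₂ = x₂ := by
    rw [hT, eichlerGL_mulVec]
    simp [polar_add_left, hWU _ hx₁ _ hx₂, hWU _ ha' _ hx₂, polar_comm _ c x₂, hc2, hpp, polar_comm _ s x₂, hs2]
  -- a singular vector of the new image with anisotropic part `x₁`
  have hm' : ((T * g : GL ι F) : Matrix ι ι F) *ᵥ (wb + wa + (z - a₁)) = x₁ + (b' + c + s) := by
    rw [Units.val_mul, ← mulVec_mulVec, mulVec_add (g : Matrix ι ι F), mulVec_add (g : Matrix ι ι F), hgwb, hgwa,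
      mulVec_sub, hgz, hga₁, add_sub_cancel_left, hT, eichlerGL_mulVec]
    have e1 : polar ⇑Q (x₁ + c) (b' + a' + x₂) = 1 := by
      simp [polar_add_left, polar_add_right, hWU _ hx₁ _ hb', hWU _ hx₁ _ hx₂, hUW _ hcU _ ha',
        polar_comm _ c b', hcb, hx₁a, polar_comm _ c x₂, hc2]
    have e2 : polar ⇑Q (a' + (x₂ + s)) (b' + a' + x₂) = 1 := by
      simp [polar_add_left, polar_add_right, hWU _ ha' _ hb', hWU _ ha' _ hx₂, hUW _ hx₂ _ ha', hUW _ hsU _ ha',
        polar_comm _ s b', hsb, hx₂b, hpp, polar_comm _ s x₂, hs2]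
    have hneg : ∀ y : ι → F, -y = y := fun y => funext fun i => CharTwo.neg_eq (y i)
    rw [e1, e2, hQY, zero_mul, add_zero, one_smul, one_smul, sub_eq_add_neg, hneg]
    have hd : ∀ y : ι → F, y + y = 0 := fun y => funext fun i => htwo (y i)
    calc b' + a' + x₂ + (a' + (x₂ + s)) + (x₁ + c) = (a' + a') + (x₂ + x₂) + (x₁ + (b' + c + s)) := by abel
      _ = _ := by rw [hd, hd, zero_add, zero_add]
  have hTg : T * g ∈ M := M.mul_mem hTM hgM
  have hq : Q (b' + c + s) = 1 := by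
    simp [QuadraticMap.map_add (⇑Q), polar_add_left, hQb, hQc, hsQ, hcb, hsb, hcs, htwo]
  rcases link_or_config hQ hn hW hk hS hPM hTg (hiso _ hTg) (W.add_mem (W.add_mem hwb hwa) (W.sub_mem hz ha₁))
      (by rw [← hiso _ hTg, hm', QuadraticMap.map_add (⇑Q), hQ1, hq,
        hWU _ hx₁ _ (Submodule.add_mem _ (Submodule.add_mem _ hb' hcU) hsU), add_zero, htwo])
      hx₁ (Submodule.add_mem _ (Submodule.add_mem _ hb' hcU) hsU) hx₁0
      (fun h => by rw [h, QuadraticMap.map_zero] at hq; exact zero_ne_one hq) hm' with h' | ⟨-, -, -, a, ha, hga⟩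
  · exact hnl h'
  obtain ⟨p, r, σ, t, hga'⟩ := hcoord _ (hmemgW a ha)
  rw [Units.val_mul, ← mulVec_mulVec, hga'] at hga
  have ht : t = 0 := by
    have := congrArg (polar ⇑Q ((T : Matrix ι ι F) *ᵥ x₂)) hga
    rw [polar_of_iso (hiso _ hTM), hTx₂] at this
    simpa [polar_add_right, polar_smul_right, hpp, hUW _ hx₂ _ hx₁, hUW _ hx₂ _ ha', hx₂b] using this
  rw [ht, zero_smul, add_zero, hT, eichlerGL_mulVec] at hga
  have e1 : polar ⇑Q (x₁ + c) (p • x₁ + r • a' + σ • x₂) = r := by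
    simp [polar_add_left, polar_add_right, polar_smul_right, hpp, hx₁a, hWU _ hx₁ _ hx₂, hUW _ hcU _ hx₁,
      hUW _ hcU _ ha', polar_comm _ c x₂, hc2]
  have e2 : polar ⇑Q (a' + (x₂ + s)) (p • x₁ + r • a' + σ • x₂) = p := by
    simp [polar_add_left, polar_add_right, polar_smul_right, hpp, polar_comm _ a' x₁, hx₁a, hWU _ ha' _ hx₂,
      hUW _ hx₂ _ hx₁, hUW _ hx₂ _ ha', hUW _ hsU _ hx₁, hUW _ hsU _ ha', polar_comm _ s x₂, hs2]
  rw [e1, e2, hQY, zero_mul, add_zero] at hga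
  refine hx₁0 (Submodule.disjoint_def.1 (isCompl_polarPerp hQ hW).disjoint x₁ hx₁ ?_)
  have hd : ∀ (k : F) (y : ι → F), k • y + k • y = 0 := fun k y => by rw [← add_smul, htwo, zero_smul]
  rw [← hga, show p • x₁ + r • a' + σ • x₂ + r • (a' + (x₂ + s)) - p • (x₁ + c)
    = (r • a' + r • a') + (σ • x₂ + r • (x₂ + s) - p • c) by module, hd, zero_add]
  exact Submodule.sub_mem _ (Submodule.add_mem _ (Submodule.smul_mem _ _ hx₂)
    (Submodule.smul_mem _ _ (Submodule.add_mem _ hx₂ hsU))) (Submodule.smul_mem _ _ hcU)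

/-- The stabiliser of the larger part is maximal. -/
theorem isMaximalIn_nondeg [Fintype F] (hW1 : W ≠ ⊤) (hbig : Fintype.card ι ≤ 2 * Module.finrank F W)
    (hsmall : Module.finrank F W = 4 → Fintype.card ι = 8)
    (hU2 : Fintype.card ι = 2 * Module.finrank F W →
      ∀ S ≤ polarPerp Q W, Cfsg.Geo.IsTotallySingularQuad (⇑Q) S → Module.finrank F S ≤ 1)
    (hex : ¬ (Fintype.card F ≤ 3 ∧ Module.finrank F (polarPerp Q W) = 2 ∧
      Cfsg.Geo.IsPlusTypeOn (⇑Q) (polarPerp Q W))) :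
    Cfsg.Geo.IsMaximalIn (Cfsg.Geo.omegaGL ⇑Q)
      (Cfsg.Geo.subspaceStabilizer W ⊓ Cfsg.Geo.omegaGL ⇑Q) := by
  have hdU := finrank_polarPerp hQ W
  obtain ⟨e, he, he0, heQ⟩ := exists_singular_point hQ hn hW hS
  refine ⟨lt_of_le_of_ne inf_le_right fun heq => ?_, fun M hPM hMK => ?_⟩
  · have hU0 : polarPerp Q W ≠ ⊥ := fun h => by
      rw [h, finrank_bot] at hdU
      refine hW1 (Submodule.eq_top_of_finrank_eq ?_)
      have := Submodule.finrank_le W
      rw [Module.finrank_fintype_fun_eq_card] at this ⊢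
      omega
    obtain ⟨u, hu, hu0⟩ := (polarPerp Q W).ne_bot_iff.mp hU0
    obtain ⟨f, hf, hfQ, hef⟩ := exists_partner_in hQ hW he he0 heQ
    have heu := mem_polarPerp.1 hu e he
    have hm := (Forms.mem_stabilizing_submodule_iff (toMat := Cfsg.glToMat ι F) W).1
      (show eichlerGL Q e u heQ heu ∈ Cfsg.Geo.subspaceStabilizer W ⊓ Cfsg.Geo.omegaGL ⇑Q by
        rw [heq]; exact E_mem_omega hQ hn heQ heu).1 f hf
    simp only [Units.coeHom_apply] at hm
    rw [eichlerGL_mulVec, hef, one_smul] at hm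
    have huW : u ∈ W := by
      have := W.add_mem (W.sub_mem hm hf) (W.smul_mem (polar ⇑Q u f + Q u * 1) he)
      convert this using 1
      abel
    exact hu0 (Submodule.disjoint_def.1 (isCompl_polarPerp hQ hW).disjoint u huW hu)
  by_cases hMP : M ≤ Cfsg.Geo.subspaceStabilizer W ⊓ Cfsg.Geo.omegaGL ⇑Q
  · exact Or.inl (le_antisymm hMP hPM)
  obtain ⟨g, hgM, hgP⟩ := SetLike.not_le_iff_exists.mp hMP
  refine Or.inr (le_antisymm hMK ?_)
  have hg : ∀ y, Q ((g : Matrix ι ι F) *ᵥ y) = Q y := by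
    obtain ⟨g', -, rfl⟩ := hMK hgM
    exact Orth.mem_isometryGroup_iff.1 g'.2
  by_cases hmix : ∃ z ∈ W, Q z = 0 ∧
      (g : Matrix ι ι F) *ᵥ z ∉ W ∧ (g : Matrix ι ι F) *ᵥ z ∉ polarPerp Q W
  · obtain ⟨z, hz, hzQ, hz1, hz2⟩ := hmix
    obtain ⟨x₁, hx₁, x₂, hx₂, hx⟩ := exists_split hQ hW ((g : Matrix ι ι F) *ᵥ z)
    by_cases hl : Link Q W M
    · obtain ⟨e', u, he', he'0, he'Q, hu, hu0, hl⟩ := hl
      exact full_of_link hQ hn hW hk hS hex hPM he' he'0 he'Q hu hu0 hl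
    have hx₁0 : x₁ ≠ 0 := fun h => hz2 (by rw [hx, h, zero_add]; exact hx₂)
    have hx₂0 : x₂ ≠ 0 := fun h => hz1 (by rw [hx, h, add_zero]; exact hx₁)
    rcases link_or_config hQ hn hW hk hS hPM hgM hg hz hzQ hx₁ hx₂ hx₁0 hx₂0 hx with h | ⟨hc, hd, -⟩
    · exact absurd h hl
    · exact (config_false hQ hn hW hk hS hPM hMK hl hc hd (hsmall hd)
        (hU2 (by rw [hd, hsmall hd])) hgM hz hzQ hx₁ hx₂ hx₁0 hx₂0 hx).elim
  push Not at hmix
  exfalso
  -- non-orthogonal singular vectors go to the same side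
  have hside : ∀ a b, a ∈ W → b ∈ W → Q a = 0 → Q b = 0 → polar ⇑Q a b ≠ 0 →
      (g : Matrix ι ι F) *ᵥ a ∈ W → (g : Matrix ι ι F) *ᵥ b ∈ W := by
    intro a b ha hb haQ hbQ hab hga
    by_contra hgb
    have := mem_polarPerp.1 (hmix b hb hbQ hgb) _ hga
    rw [polar_of_iso hg] at this
    exact hab this
  have hconn : ∀ a b, a ∈ W → b ∈ W → Q a = 0 → Q b = 0 → a ≠ 0 → b ≠ 0 →
      (g : Matrix ι ι F) *ᵥ a ∈ W → (g : Matrix ι ι F) *ᵥ b ∈ W := by
    intro a b ha hb haQ hbQ ha0 hb0 hga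
    by_cases hdep : ∃ c : F, b = c • a
    · obtain ⟨c, rfl⟩ := hdep
      rw [mulVec_smul]; exact W.smul_mem _ hga
    push Not at hdep
    by_cases hab : polar ⇑Q a b = 0
    swap
    · exact hside a b ha hb haQ hbQ hab hga
    obtain ⟨c, hc, hci⟩ := exists_polar_in hQ hW
      ((LinearIndependent.pair_iff' ha0).mpr fun t h => hdep t h.symm : LinearIndependent F ![a, b])
      (fun i => by fin_cases i <;> simp [ha, hb]) ![1, 1]
    have c1 : polar ⇑Q a c = 1 := hci 0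
    have c2 : polar ⇑Q b c = 1 := hci 1
    set z := c - Q c • a with hz
    have hzW : z ∈ W := W.sub_mem hc (W.smul_mem _ ha)
    have hzQ : Q z = 0 := by
      rw [hz, sub_eq_add_neg, QuadraticMap.map_add (⇑Q), QuadraticMap.map_neg, QuadraticMap.map_smul,
        polar_neg_right, polar_smul_right, polar_comm _ c a, c1, haQ]
      simp
    have haz : polar ⇑Q a z = 1 := by
      rw [hz, polar_sub_right, polar_smul_right, Orth.polar_self_zero haQ, smul_zero, sub_zero, c1]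
    have hzb : polar ⇑Q z b = 1 := by
      rw [hz, polar_sub_left, polar_smul_left, hab, smul_zero, sub_zero, polar_comm, c2]
    exact hside z b hzW hb hzQ hbQ (by rw [hzb]; exact one_ne_zero)
      (hside a z ha hzW haQ hzQ (by rw [haz]; exact one_ne_zero) hga)
  have hspan := le_span_singular hQ hW he he0 heQ
  by_cases hge : (g : Matrix ι ι F) *ᵥ e ∈ W
  · refine hgP (mem_stab_of hQ hn hW hk hS (hMK hgM) fun w hw => ?_)
    refine (Submodule.span_le (p := W.comap (Matrix.mulVecLin (g : Matrix ι ι F)))).2 ?_ (hspan hw)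
    rintro z ⟨hz, hzQ⟩
    by_cases hz0 : z = 0
    · rw [hz0]; exact Submodule.zero_mem _
    exact hconn e z he hz heQ hzQ he0 hz0 hge
  have hall : ∀ w ∈ W, (g : Matrix ι ι F) *ᵥ w ∈ polarPerp Q W := fun w hw => by
    refine (Submodule.span_le (p := (polarPerp Q W).comap (Matrix.mulVecLin (g : Matrix ι ι F)))).2 ?_
      (hspan hw)
    rintro z ⟨hz, hzQ⟩
    by_cases hz0 : z = 0
    · rw [hz0]; exact Submodule.zero_mem _
    exact hmix z hz hzQ fun h => hge (hconn z e hz he hzQ heQ hz0 he0 h)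
  have hinj : Function.Injective (Matrix.mulVecLin (g : Matrix ι ι F)) := fun a b h => by
    have := congrArg (fun z => ((g⁻¹ : GL ι F) : Matrix ι ι F) *ᵥ z) h
    simpa using this
  have h1 := Submodule.finrank_mono (Submodule.map_le_iff_le_comap.2 hall :
    W.map (Matrix.mulVecLin (g : Matrix ι ι F)) ≤ polarPerp Q W)
  rw [← (Submodule.equivMapOfInjective _ hinj W).finrank_eq, hdU] at h1
  obtain ⟨S, hSW, hSts, hSd⟩ := hS
  have h2 := hU2 (by omega) (S.map (Matrix.mulVecLin (g : Matrix ι ι F)))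
    (Submodule.map_le_iff_le_comap.2 fun w hw => hall w (hSW hw)) (by
      intro y hy
      obtain ⟨w, hw, rfl⟩ := Submodule.mem_map.1 hy
      show Q ((g : Matrix ι ι F) *ᵥ w) = 0
      rw [hg]
      exact hSts w hw)
  rw [← (Submodule.equivMapOfInjective _ hinj S).finrank_eq] at h2
  omega


end WittTwo

end Cfsg.Agent.Lib.OrthEight
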