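import Cfsg.Agent.Lib.OrthSubfield.Standard

/-!
The orthogonal subfield groups are maximal in every dimension from eight on.
-/

set_option autoImplicit false

namespace Cfsg.Agent.Lib.OrthSubfield

open Matrix QuadraticMap Cfsg.Agent.Lib Cfsg.Agent.Lib.SubfieldMax

variable {ι : Type} [Fintype ι] [DecidableEq ι] {F : Type*} [Field F] {Q : QuadraticForm F (ι → F)}
  {K : Subfield F} {P : GL ι F} {M : Subgroup ((ι → F) ≃ₗ[F] (ι → F))}

local notation "Vs" => (ι → F)
local notation "Ks" => (ι → K)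
local notation "ρR" => ratVec K P

namespace OData

variable [Finite F] (D : OData Q K P)
include D

theorem spread_perp_eight (hO : Over D M) (hn : 8 ≤ Fintype.card ι) {t : Ks} {z : Vs} (ht : D.rQ t = 0)
    (htz : polar Q (ρR t) z = 0) (h : HasRoot Q M (ρR t) z) {a : Ks} (ha : D.rQ a = 0)
    (hat : D.rp a t = 0) :
    HasRoot Q M (ρR t) (polar Q z (ρR a) • ρR a) := by
  have hac : D.rp a a = 0 := D.rp_self_zero ha
  obtain ⟨b, f, hb, hf, hbb, hfb⟩ := D.exists_hyp_perp ![t, a] (by omega)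
  obtain ⟨x, hx⟩ := D.exists_sing_adjust hbb (f := (D.rp f b)⁻¹ • f)
    (by rw [D.rp_smul_left, inv_mul_cancel₀ hfb]; exact one_ne_zero)
  set a' := (D.rp f b)⁻¹ • f + x • b with ha'
  have hbt : D.rp b t = 0 := hb 0
  have hba : D.rp b a = 0 := hb 1
  have hbc : D.rp b a = 0 := hb 1
  have ha't : D.rp a' t = 0 := by
    rw [ha', D.rp_add_left, D.rp_smul_left, D.rp_smul_left, show D.rp f t = 0 from hf 0, hbt]; ring
  have ha'a : D.rp a' a = 0 := by
    rw [ha', D.rp_add_left, D.rp_smul_left, D.rp_smul_left, show D.rp f a = 0 from hf 1, hba]; ring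
  have ha'c : D.rp a' a = 0 := by
    rw [ha', D.rp_add_left, D.rp_smul_left, D.rp_smul_left, show D.rp f a = 0 from hf 1, hbc]; ring
  have ha'b : D.rp b a' = 1 := by
    rw [D.rp_comm, ha', D.rp_add_left, D.rp_smul_left, D.rp_smul_left, inv_mul_cancel₀ hfb, D.rp_self_zero hbb,
      mul_zero, add_zero]
  have htt : Q (ρR t) = 0 := D.Q_rat_zero ht
  have pt : ∀ u : Ks, D.rp u t = 0 → polar Q (ρR u) (ρR t) = 0 := fun u hu => D.polar_rat_zero hu
  have pt' : ∀ u : Ks, D.rp u t = 0 → polar Q (ρR t) (ρR u) = 0 := fun u hu => by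
    rw [polar_comm]; exact D.polar_rat_zero hu
  -- conjugate and cancel
  obtain ⟨g, hg, eg⟩ := hO.rat a b ha hbb (by rw [D.rp_comm]; exact hba)
  have e1 : g (ρR t) = ρR t := by
    rw [eg, pt' a hat, pt' b hbt]; simp
  set p := polar Q z (ρR b) • ρR a - polar Q z (ρR a) • ρR b with hp
  have e2 : g z = z + p := by
    rw [eg, D.Q_rat_zero hbb, hp]; module
  have h1 := hasRoot_conj hO.iso hg h
  rw [e1, e2] at h1
  have htp : polar Q (ρR t) p = 0 := by
    rw [hp, polar_sub_right, polar_smul_right, polar_smul_right, pt' a hat, pt' b hbt]; simp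
  have h2 := hasRoot_mul htt (by rw [polar_add_right, htz, htp, add_zero]) (by rw [polar_neg_right, htz, neg_zero])
    h1 (hasRoot_neg htt htz h)
  rw [add_neg_cancel_comm] at h2
  obtain ⟨k, hk, ek⟩ := hO.rat a' a hx ha ha'c
  have e3 : k (ρR t) = ρR t := by
    rw [ek, pt' a' ha't, pt' a hat]; simp
  have e4 : k p = p + polar Q z (ρR a) • ρR a := by
    rw [ek, D.Q_rat_zero ha, hp]
    simp only [polar_sub_left, polar_smul_left, D.polar_rat_zero hac, D.polar_rat_zero hbc,
      D.polar_rat_one ha'b, polar_comm (⇑Q) (ρR a) (ρR a'), D.polar_rat_zero ha'a, smul_eq_mul]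
    match_scalars <;> ring
  have h3 := hasRoot_conj hO.iso hk h2
  rw [e3, e4] at h3
  have hzc : polar Q (ρR t) (polar Q z (ρR a) • ρR a) = 0 := by rw [polar_smul_right, pt' a hat, smul_zero]
  have h4 := hasRoot_mul htt (by rw [polar_add_right, htp, hzc, add_zero])
    (by rw [polar_neg_right, htp, neg_zero]) h3 (hasRoot_neg htt htp h2)
  rwa [add_neg_cancel_comm] at h4

/-- Moving the rational direction of a root element along a rational long root element. -/
theorem spread_step_eight (hO : Over D M) {t a c : Ks} (ht : D.rQ t = 0) (ha : D.rQ a = 0) (hc : D.rQ c = 0)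
    (hat : D.rp a t = 0) (hct : D.rp c t = 0) (hac : D.rp a c = 0) (hli : LinearIndependent K ![c, t, a]) {l : F}
    (h : HasRoot Q M (ρR t) (l • ρR a)) : HasRoot Q M (ρR t) (l • ρR c) := by
  obtain ⟨a', ha', haj⟩ := D.exists_sing_dual hli (fun i => by fin_cases i <;> assumption)
    (fun i j => by
      fin_cases i <;> fin_cases j <;> simp [D.rp_self_zero ht, D.rp_self_zero ha, D.rp_self_zero hc, hat, hct, hac,
        D.rp_comm t a, D.rp_comm t c, D.rp_comm c a])
    ![0, 0, 1] 2 one_ne_zero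
  have h'c : D.rp a' c = 0 := haj 0
  have h't : D.rp a' t = 0 := haj 1
  have h'a : D.rp a' a = 1 := haj 2
  have htt : Q (ρR t) = 0 := D.Q_rat_zero ht
  obtain ⟨g, hg, eg⟩ := hO.rat a' c ha' hc h'c
  have e1 : g (ρR t) = ρR t := by
    rw [eg, polar_comm (⇑Q) (ρR t) (ρR a'), D.polar_rat_zero h't, polar_comm (⇑Q) (ρR t) (ρR c),
      D.polar_rat_zero hct]
    simp
  have e2 : g (l • ρR a) = l • ρR a + -(l • ρR c) := by
    rw [map_smul, eg, polar_comm (⇑Q) (ρR a) (ρR a'), D.polar_rat_one h'a, D.polar_rat_zero hac, D.Q_rat_zero hc]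
    module
  have h1 := hasRoot_conj hO.iso hg h
  rw [e1, e2] at h1
  have za : polar Q (ρR t) (l • ρR a) = 0 := by
    rw [polar_smul_right, polar_comm, D.polar_rat_zero hat, smul_zero]
  have zc : polar Q (ρR t) (-(l • ρR c)) = 0 := by
    rw [polar_neg_right, polar_smul_right, polar_comm, D.polar_rat_zero hct, smul_zero, neg_zero]
  have h2 := hasRoot_mul htt (by rw [polar_add_right, za, zc, add_zero]) (by rw [polar_neg_right, za, neg_zero])
    h1 (hasRoot_neg htt za h)
  rw [add_neg_cancel_comm] at h2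
  simpa using hasRoot_neg htt zc h2

theorem spread_eight (hO : Over D M) (hn : 8 ≤ Fintype.card ι) {t : Ks} {z : Vs} (ht : D.rQ t = 0)
    (htz : polar Q (ρR t) z = 0) (h : HasRoot Q M (ρR t) z) {a c : Ks} (ha : D.rQ a = 0) (hc : D.rQ c = 0)
    (hat : D.rp a t = 0) (hct : D.rp c t = 0) : HasRoot Q M (ρR t) (polar Q z (ρR a) • ρR c) := by
  by_cases hl : polar Q z (ρR a) = 0
  · rw [hl, zero_smul]; exact hasRoot_zero_right
  by_cases ht0 : t = 0
  · rw [ht0, ratVec_zero]; exact hasRoot_zero_left _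
  have hta : a ∉ Submodule.span K {t} := fun hm => by
    obtain ⟨k, rfl⟩ := Submodule.mem_span_singleton.mp hm
    exact hl (by rw [ratVec_smul, polar_smul_right, polar_comm, htz, smul_zero])
  have hli := OData.indep_two ht0 hta
  have h1 := D.spread_perp_eight hO hn ht htz h ha hat
  obtain ⟨d₀, hd₀, hd₀d, hd₀S⟩ := D.exists_sing_perp_notMem ![t, a] (Submodule.span K (Set.range ![t, a]))
    (by omega) (by have := OData.finrank_span_fin_le (K := K) ![t, a]; omega)
  have hd₀t : D.rp d₀ t = 0 := hd₀ 0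
  have hd₀a : D.rp d₀ a = 0 := hd₀ 1
  rw [Matrix.range_cons, Matrix.range_cons, Matrix.range_empty, Set.union_empty, ← Set.insert_eq] at hd₀S
  by_cases hac : D.rp a c = 0
  · by_cases hcS : c ∈ Submodule.span K {t, a}
    · obtain ⟨α, β, hcab⟩ := Submodule.mem_span_pair.mp hcS
      have h2 := D.spread_step_eight hO ht ha hd₀d hat hd₀t ((D.rp_comm a d₀).trans hd₀a)
        (OData.indep_three hli hd₀S) h1
      by_cases hβ : β = 0
      · rw [← hcab, hβ, zero_smul, add_zero, ratVec_smul]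
        exact ⟨1, M.one_mem, fun x => by
          simp only [LinearEquiv.coe_one, id_eq, polar_smul_right, QuadraticMap.map_smul, D.Q_rat_zero ht, smul_eq_mul]
          match_scalars <;> ring⟩
      refine D.spread_step_eight hO ht hd₀d hc hd₀t hct ?_ ?_ h2
      · rw [← hcab, D.rp_add_right, D.rp_smul_right, D.rp_smul_right, hd₀t, hd₀a]; ring
      · refine OData.indep_three (OData.indep_two ht0 fun hm => hd₀S (Submodule.span_mono (by simp) hm)) fun hm => ?_
        obtain ⟨γ, δ, e⟩ := Submodule.mem_span_pair.mp hm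
        by_cases hδ : δ = 0
        · refine hta (Submodule.mem_span_singleton.mpr ⟨β⁻¹ * (γ - α), ?_⟩)
          have e' : (γ - α) • t = β • a := by rw [sub_smul, ← add_right_cancel_iff (a := δ • d₀), ← sub_eq_zero]; rw [hδ] at e ⊢; rw [← hcab] at e; simp only [zero_smul, add_zero] at e ⊢; rw [e]; abel
          rw [← smul_smul, e', inv_smul_smul₀ hβ]
        · refine hd₀S (Submodule.mem_span_pair.mpr ⟨δ⁻¹ * (α - γ), δ⁻¹ * β, ?_⟩)
          have e' : (α - γ) • t + β • a = δ • d₀ := by rw [← hcab] at e; rw [sub_smul, eq_comm, ← sub_eq_zero]; rw [← sub_eq_zero] at e; rw [← e]; abel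
          rw [← smul_smul, ← smul_smul, ← smul_add, e', inv_smul_smul₀ hδ]
    · exact D.spread_step_eight hO ht ha hc hat hct hac (OData.indep_three hli hcS) h1
  · set k := D.rp d₀ c / D.rp a c with hk
    set d := d₀ - k • a with hd
    have hdd : D.rQ d = 0 := by
      rw [hd, sub_eq_add_neg, ← neg_smul, D.rQ_add, D.rQ_smul, D.rp_smul_right, hd₀d, ha, hd₀a]; ring
    have hdt : D.rp d t = 0 := by rw [hd, D.rp_sub_left, D.rp_smul_left, hd₀t, hat]; ring
    have hda : D.rp a d = 0 := by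
      rw [hd, D.rp_sub_right, D.rp_smul_right, D.rp_comm a d₀, hd₀a, D.rp_self_zero ha]; ring
    have hdc : D.rp d c = 0 := by
      rw [hd, D.rp_sub_left, D.rp_smul_left, hk, div_mul_cancel₀ _ hac, sub_self]
    have hdS : d ∉ Submodule.span K {t, a} := fun hm => hd₀S (by
      have := Submodule.add_mem _ hm (Submodule.smul_mem _ k (Submodule.subset_span (show a ∈ ({t, a} : Set Ks) by simp)))
      rwa [hd, sub_add_cancel] at this)
    have h2 := D.spread_step_eight hO ht ha hdd hat hdt hda (OData.indep_three hli hdS) h1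
    refine D.spread_step_eight hO ht hdd hc hdt hct hdc ?_ h2
    refine OData.indep_three (OData.indep_two ht0 fun hm => hdS (Submodule.span_mono (by simp) hm)) fun hm => ?_
    obtain ⟨γ, δ, e⟩ := Submodule.mem_span_pair.mp hm
    exact hac (by rw [← e, D.rp_add_right, D.rp_smul_right, D.rp_smul_right, hat, hda]; ring)

theorem good_of_pair_eight (hO : Over D M) (hn : 8 ≤ Fintype.card ι) {t b : Ks} (hli : LinearIndependent K ![t, b])
    (ht : D.rQ t = 0) (hb : D.rQ b = 0) (htb : D.rp t b = 0) {l : F}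
    (h : HasRoot Q M (ρR t) (l • ρR b)) : Good D M l := by
  have step : ∀ {t b : Ks}, LinearIndependent K ![t, b] → D.rQ t = 0 → D.rQ b = 0 → D.rp t b = 0 →
      HasRoot Q M (ρR t) (l • ρR b) → ∀ c, D.rQ c = 0 → D.rp c t = 0 → HasRoot Q M (ρR t) (l • ρR c) := by
    intro t b hli ht hb htb h c hc hct
    obtain ⟨a, ha, haj⟩ := D.exists_sing_dual hli (fun i => by fin_cases i <;> assumption)
      (fun i j => by
        fin_cases i <;> fin_cases j <;> simp [D.rp_self_zero ht, D.rp_self_zero hb, htb, D.rp_comm b t])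
      ![0, 1] 1 one_ne_zero
    have h1 := D.spread_eight hO hn ht (by rw [polar_smul_right, D.polar_rat_zero htb, smul_zero]) h ha hc (haj 0) hct
    rwa [polar_smul_left, polar_comm (⇑Q) (ρR b) (ρR a), D.polar_rat_one (show D.rp a b = 1 from haj 1), smul_eq_mul, mul_one] at h1
  intro a c ha hc hac
  by_cases ha0 : a = 0
  · rw [ha0, ratVec_zero]; exact hasRoot_zero_left _
  obtain ⟨d, hd, hdd, hdS⟩ := D.exists_sing_perp_notMem ![t, a] (Submodule.span K (Set.range ![t, a])) (by omega)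
    (by have := OData.finrank_span_fin_le (K := K) ![t, a]; omega)
  have hdt : D.rp d t = 0 := hd 0
  have hda : D.rp d a = 0 := hd 1
  have ht0 : t ≠ 0 := fun e => by
    rw [LinearIndependent.pair_iff] at hli
    exact one_ne_zero (hli 1 0 (by simp [e])).1
  have hd0 : d ≠ 0 := OData.ne_zero_of_notMem hdS
  have hdt' : t ∉ Submodule.span K {d} := fun hm => by
    obtain ⟨k, hk⟩ := Submodule.mem_span_singleton.mp hm
    have hk0 : k ≠ 0 := fun e => ht0 (by rw [← hk, e, zero_smul])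
    exact hdS (by
      rw [← inv_smul_smul₀ hk0 d, hk]
      exact Submodule.smul_mem _ _ (Submodule.subset_span (by simp)))
  have hda' : d ∉ Submodule.span K {a} := fun hm => hdS (Submodule.span_mono (by simp) hm)
  have hda'' : a ∉ Submodule.span K {d} := fun hm => by
    obtain ⟨k, hk⟩ := Submodule.mem_span_singleton.mp hm
    have hk0 : k ≠ 0 := fun e => ha0 (by rw [← hk, e, zero_smul])
    exact hdS (by
      rw [← inv_smul_smul₀ hk0 d, hk]
      exact Submodule.smul_mem _ _ (Submodule.subset_span (by simp)))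
  have flip : ∀ {u v : Ks}, D.rQ u = 0 → D.rQ v = 0 → HasRoot Q M (ρR u) (l • ρR v) →
      HasRoot Q M (ρR v) (l • ρR (-u)) := by
    intro u v hu hv h
    have h1 := hasRoot_swap (D.Q_rat_zero hu)
      (by rw [QuadraticMap.map_smul, D.Q_rat_zero hv, smul_zero]) h
    rw [hasRoot_smul (by rw [QuadraticMap.map_neg, D.Q_rat_zero hu])] at h1
    rwa [← neg_one_smul K u, ratVec_smul, show ((-1 : K) : F) = -1 by simp, neg_one_smul]
  have h1 := flip ht hdd (step hli ht hb htb h d hdd hdt)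
  have hnt : D.rQ (-t) = 0 := by rw [QuadraticMap.map_neg, ht]
  have h2 := flip hdd ha (step (b := -t) (OData.indep_two hd0 fun hm => hdt' (by simpa using hm)) hdd hnt
    (by rw [rp, polar_neg_right]; simpa [rp] using hdt) h1 a ha (by rw [D.rp_comm]; exact hda))
  refine step (b := -d) (OData.indep_two ha0 fun hm => hda' (by simpa using hm)) ha
    (by rw [QuadraticMap.map_neg, hdd]) ?_ h2 c hc (by rw [D.rp_comm]; exact hac)
  rw [rp, polar_neg_right]
  simpa [rp] using (D.rp_comm a d).trans hda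

theorem good_mul_eight (hO : Over D M) (hn : 8 ≤ Fintype.card ι) {c d : F} (hc : Good D M c) (hd : Good D M d) :
    Good D M (c * d) := by
  obtain ⟨a, -, ha, haS⟩ := D.exists_sing_perp_notMem (![] : Fin 0 → Ks) ⊥ (by omega)
    (by rw [finrank_bot]; omega)
  have ha0 : a ≠ 0 := OData.ne_zero_of_notMem haS
  obtain ⟨t, hta, ht, htS⟩ := D.exists_sing_perp_notMem ![a] (Submodule.span K {a}) (by omega)
    (by rw [finrank_span_singleton ha0]; omega)
  have hli := OData.indep_two ha0 htS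
  have hta' : D.rp t a = 0 := hta 0
  obtain ⟨t', ht', ht'j⟩ := D.exists_sing_dual hli (fun i => by fin_cases i <;> assumption)
    (fun i j => by
      fin_cases i <;> fin_cases j <;> simp [D.rp_self_zero ha, D.rp_self_zero ht, hta', D.rp_comm a t])
    ![0, 1] 1 one_ne_zero
  have ht'a : D.rp t' a = 0 := ht'j 0
  have ht't : D.rp t' t = 1 := ht'j 1
  obtain ⟨b₀, hb₀, hb₀b, hb₀S⟩ := D.exists_sing_perp_notMem ![a, t] (Submodule.span K (Set.range ![a, t]))
    (by omega) (by have := OData.finrank_span_fin_le (K := K) ![a, t]; omega)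
  rw [Matrix.range_cons, Matrix.range_cons, Matrix.range_empty, Set.union_empty, ← Set.insert_eq] at hb₀S
  set b' := b₀ - D.rp b₀ t' • t with hb'
  have hba : D.rp b' a = 0 := by
    rw [hb', D.rp_sub_left, D.rp_smul_left, show D.rp b₀ a = 0 from hb₀ 0, hta']; ring
  have hbt : D.rp b' t = 0 := by
    rw [hb', D.rp_sub_left, D.rp_smul_left, show D.rp b₀ t = 0 from hb₀ 1, D.rp_self_zero ht]; ring
  have hbt' : D.rp b' t' = 0 := by
    rw [hb', D.rp_sub_left, D.rp_smul_left, D.rp_comm t t', ht't]; ring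
  have hbb : D.rQ b' = 0 := by
    rw [hb', sub_eq_add_neg, ← neg_smul, D.rQ_add, D.rQ_smul, D.rp_smul_right, hb₀b, ht,
      show D.rp b₀ t = 0 from hb₀ 1]; ring
  have hbS : b' ∉ Submodule.span K {a} := fun hm => hb₀S (by
    have := Submodule.add_mem _ (Submodule.span_mono (show ({a} : Set Ks) ⊆ {a, t} by simp) hm)
      (Submodule.smul_mem _ (D.rp b₀ t') (Submodule.subset_span (show t ∈ ({a, t} : Set Ks) by simp)))
    rwa [hb', sub_add_cancel] at this)
  obtain ⟨X, hX, eX⟩ := hc a t ha ht (by rw [D.rp_comm]; exact hta')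
  have e1 : X (ρR t') = ρR t' + c • ρR a := by
    rw [eX, polar_smul_right, D.polar_rat_one ht't, D.polar_rat_zero ht'a]; simp
  have e2 : X (ρR b') = ρR b' := by
    rw [eX, polar_smul_right, D.polar_rat_zero hbt, D.polar_rat_zero hba]; simp
  have h0 := hd t' b' ht' hbb (by rw [D.rp_comm]; exact hbt')
  have h1 := hasRoot_conj hO.iso hX h0
  rw [map_smul, e1, e2] at h1
  have zb : Q (ρR b') = 0 := D.Q_rat_zero hbb
  have za : Q (ρR a) = 0 := D.Q_rat_zero ha
  have zt : Q (ρR t') = 0 := D.Q_rat_zero ht'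
  have pat : polar Q (ρR t') (ρR a) = 0 := D.polar_rat_zero ht'a
  have pb1 : polar Q (ρR b') (ρR t') = 0 := D.polar_rat_zero hbt'
  have pb2 : polar Q (ρR b') (ρR a) = 0 := D.polar_rat_zero hba
  have zs : Q (ρR t' + c • ρR a) = 0 := by
    rw [QuadraticMap.map_add (⇑Q), QuadraticMap.map_smul, za, zt, polar_smul_right, pat]; simp
  have zdb : Q (d • ρR b') = 0 := by rw [QuadraticMap.map_smul, zb, smul_zero]
  have h2 := hasRoot_swap zs zdb h1
  rw [hasRoot_smul (by rw [QuadraticMap.map_neg, zs])] at h2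
  have h3 := hasRoot_swap zt zdb h0
  rw [hasRoot_smul (by rw [QuadraticMap.map_neg, zt])] at h3
  have h4 := hasRoot_mul zb (by simp [polar_smul_right, polar_neg_right, polar_add_right, pb1, pb2])
    (by simp [polar_smul_right, polar_neg_right, pb1]) h2
    (hasRoot_neg zb (by simp [polar_smul_right, polar_neg_right, pb1]) h3)
  rw [show d • -(ρR t' + c • ρR a) + -(d • -ρR t') = (-(c * d)) • ρR a by module] at h4
  have h5 := hasRoot_swap zb (by rw [QuadraticMap.map_smul, za, smul_zero]) h4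
  rw [hasRoot_smul (by rw [QuadraticMap.map_neg, zb]), neg_smul_neg] at h5
  exact D.good_of_pair_eight hO hn (OData.indep_two ha0 hbS) ha hbb
    (by rw [D.rp_comm]; exact hba) h5

theorem good_all_eight (hO : Over D M) (hn : 8 ≤ Fintype.card ι) (r : ℕ) (hr : r.Prime)
    (hcard : Nat.card F = Nat.card K ^ r) {c : F} (hc : c ∉ K) (hgood : Good D M c) (x : F) : Good D M x := by
  let S : Subalgebra K F :=
    { carrier := {x | Good D M x}
      mul_mem' := fun ha hb => D.good_mul_eight hO hn ha hb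
      one_mem' := by simpa using D.good_coe hO 1
      add_mem' := fun ha hb => D.good_add ha hb
      zero_mem' := by simpa using D.good_coe hO 0
      algebraMap_mem' := fun a => D.good_coe hO a }
  haveI : Module.Finite K F := Module.Finite.of_finite
  have hdim : Module.finrank K F = r := by
    have h := Module.natCard_eq_pow_finrank (K := K) (V := F)
    rw [hcard] at h
    exact (Nat.pow_right_injective Finite.one_lt_card h).symm
  have h := Subalgebra.isSimpleOrder_of_finrank_prime K F (hdim ▸ hr)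
  rcases h.eq_bot_or_eq_top S with e | e
  · exfalso
    have hcS : c ∈ (⊥ : Subalgebra K F) := e ▸ (hgood : c ∈ S)
    obtain ⟨a, ha⟩ := Algebra.mem_bot.mp hcS
    exact hc (ha ▸ a.2)
  · exact (e ▸ Algebra.mem_top : x ∈ S)

theorem good_of_pi_eight (hO : Over D M) (hn : 8 ≤ Fintype.card ι) {w y : Vs} (hp : RootPair Q M w y) {t : Ks}
    (ht : D.rQ t = 0) (ht0 : t ≠ 0) (htw : polar Q w (ρR t) = 0) (hty : polar Q y (ρR t) = 0) {s a : Ks}
    (hs : D.rQ s = 0) (ha : D.rQ a = 0) (hst : D.rp s t = 0) (hat : D.rp a t = 0) :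
    Good D M (pi2 Q w y (ρR s) (ρR a)) := by
  obtain ⟨hw, hy, hwy, hroot⟩ := hp
  have htt : Q (ρR t) = 0 := D.Q_rat_zero ht
  have hss : Q (ρR s) = 0 := D.Q_rat_zero hs
  obtain ⟨e, he, ee⟩ := hO.rat t s ht hs (by rw [D.rp_comm]; exact hst)
  set κ := polar Q w (ρR s) with hκ
  set μ := polar Q y (ρR s) with hμ
  have ew : e w = w + κ • ρR t := by rw [ee, htw, hss]; module
  have ey : e y = y + μ • ρR t := by rw [ee, hty, hss]; module
  obtain ⟨gA, hgA, eA⟩ := hasRoot_conj hO.iso he hroot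
  obtain ⟨gB, hgB, eB⟩ := hasRoot_neg hw hwy hroot
  set z := κ • y - μ • w with hz
  have hQey : Q (y + μ • ρR t) = 0 := by
    rw [QuadraticMap.map_add (⇑Q), QuadraticMap.map_smul, polar_smul_right, hy, htt, hty]; simp
  have hQz : Q z = 0 := by
    rw [hz, sub_eq_add_neg, ← neg_smul, QuadraticMap.map_add (⇑Q), QuadraticMap.map_smul, QuadraticMap.map_smul,
      polar_smul_left, polar_smul_right, polar_comm (⇑Q) y w, hwy, hw, hy]; simp
  have htz : polar Q (ρR t) z = 0 := by
    rw [hz, polar_sub_right, polar_smul_right, polar_smul_right, polar_comm (⇑Q) (ρR t) y, hty,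
      polar_comm (⇑Q) (ρR t) w, htw]; simp
  have hroot' : HasRoot Q M (ρR t) z := by
    refine ⟨gA * gB, M.mul_mem hgA hgB, fun x => ?_⟩
    rw [LinearEquiv.mul_apply, eA, ew, ey, eB, hQz]
    simp only [hQey, QuadraticMap.map_neg, hy, hQz, hz, zero_mul, zero_smul, sub_zero, polar_add_left,
      polar_add_right, polar_sub_left, polar_sub_right, polar_smul_left, polar_smul_right, polar_neg_left,
      polar_neg_right, polar_self, hw, htt, hwy, polar_comm (⇑Q) y w, htw, hty, smul_zero, smul_eq_mul]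
    match_scalars <;> ring
  obtain ⟨c, hct, hc, hcS⟩ := D.exists_sing_perp_notMem ![t] (Submodule.span K {t}) (by omega)
    (by rw [finrank_span_singleton ht0]; omega)
  have h := D.spread_eight hO hn ht htz hroot' ha hc hat (hct 0)
  have hval : polar Q z (ρR a) = pi2 Q w y (ρR s) (ρR a) := by
    rw [hz, polar_sub_left, polar_smul_left, polar_smul_left, pi2, hκ, hμ, smul_eq_mul, smul_eq_mul]
  rw [hval] at h
  exact D.good_of_pair_eight hO hn (OData.indep_two ht0 hcS) ht hc (by rw [D.rp_comm]; exact hct 0) h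

theorem ratPair_of_hno_eight (hO : Over D M) (hn : 8 ≤ Fintype.card ι) (hno : ∀ c, Good D M c → c ∈ K) {w y : Vs}
    (hp : RootPair Q M w y) {t : Ks} (ht : D.rQ t = 0) (ht0 : t ≠ 0) (htw : polar Q w (ρR t) = 0)
    (hty : polar Q y (ρR t) = 0) :
    ∀ u v, D.rp u t = 0 → D.rp v t = 0 → pi2 Q w y (ρR u) (ρR v) ∈ K := by
  have hiso : ∀ s a, D.rQ s = 0 → D.rQ a = 0 → D.rp s t = 0 → D.rp a t = 0 → pi2 Q w y (ρR s) (ρR a) ∈ K :=
    fun s a h1 h2 h3 h4 => hno _ (D.good_of_pi_eight hO hn hp ht ht0 htw hty h1 h2 h3 h4)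
  have half : ∀ a, D.rQ a = 0 → D.rp a t = 0 → ∀ u, D.rp u t = 0 → pi2 Q w y (ρR u) (ρR a) ∈ K := by
    intro a ha hat u hu
    let S : Submodule K Ks :=
      { carrier := {u | pi2 Q w y (ρR u) (ρR a) ∈ K}
        add_mem' := fun {x x'} hx hx' => by
          simp only [Set.mem_setOf_eq] at hx hx' ⊢
          rw [ratVec_add, pi2_add_left]; exact K.add_mem hx hx'
        zero_mem' := by
          simp only [Set.mem_setOf_eq, ratVec_zero, pi2, polar_zero_right, zero_mul, sub_self]
          exact K.zero_mem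
        smul_mem' := fun k x hx => by
          simp only [Set.mem_setOf_eq] at hx ⊢
          rw [ratVec_smul, pi2_smul_left]; exact K.mul_mem k.2 hx }
    exact D.sing_perp_mem ![t] (by omega) S (fun x hx hxx => hiso x a hxx ha (hx 0) hat)
      (fun i => by fin_cases i; exact hu)
  intro u v hu hv
  let S : Submodule K Ks :=
    { carrier := {v | pi2 Q w y (ρR v) (ρR u) ∈ K}
      add_mem' := fun {x x'} hx hx' => by
        simp only [Set.mem_setOf_eq] at hx hx' ⊢
        rw [ratVec_add, pi2_add_left]; exact K.add_mem hx hx'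
      zero_mem' := by
        simp only [Set.mem_setOf_eq, ratVec_zero, pi2, polar_zero_right, zero_mul, sub_self]
        exact K.zero_mem
      smul_mem' := fun k x hx => by
        simp only [Set.mem_setOf_eq] at hx ⊢
        rw [ratVec_smul, pi2_smul_left]; exact K.mul_mem k.2 hx }
  rw [pi2_comm]
  refine K.neg_mem (D.sing_perp_mem ![t] (by omega) S (fun x hx hxx => ?_) (fun i => by fin_cases i; exact hv))
  show pi2 Q w y (ρR x) (ρR u) ∈ K
  rw [pi2_comm]
  exact K.neg_mem (half x hxx (hx 0) u hu)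

theorem exists_three_eight (hn : 8 ≤ Fintype.card ι) (t b₁ b₂ : Ks) :
    ∃ t' : Fin 3 → Ks, LinearIndependent K t' ∧
      ∀ i, D.rQ (t' i) = 0 ∧ D.rp (t' i) t = 0 ∧ D.rp (t' i) b₁ = 0 ∧ D.rp (t' i) b₂ = 0 := by
  obtain ⟨W, hW, hd⟩ := D.finrank_perp ![t, b₁, b₂]
  have pick : ∀ S : Submodule K Ks, Module.finrank K S ≤ 2 → ∃ x ∈ W, D.rQ x = 0 ∧ x ∉ S := by
    intro S hS
    obtain ⟨S', hS'⟩ := Submodule.exists_isCompl S
    have h1 := Submodule.finrank_add_eq_of_isCompl hS'
    have h2 := Submodule.finrank_sup_add_finrank_inf_eq W S'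
    have h3 := Submodule.finrank_le (W ⊔ S')
    rw [Module.finrank_fintype_fun_eq_card] at h1 h3
    obtain ⟨x, hx, hx0, hxx⟩ := D.exists_singular_mem (W ⊓ S') (by omega)
    exact ⟨x, hx.1, hxx, fun h => hx0 (Submodule.disjoint_def.mp hS'.disjoint x h hx.2)⟩
  obtain ⟨x, hx, hxx, hxS⟩ := pick ⊥ (by rw [finrank_bot]; omega)
  have hx0 := OData.ne_zero_of_notMem hxS
  obtain ⟨z, hz, hzz, hzS⟩ := pick (Submodule.span K {x}) (by rw [finrank_span_singleton hx0]; omega)
  obtain ⟨v, hv, hvv, hvS⟩ := pick (Submodule.span K (Set.range ![x, z]))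
    (by have := OData.finrank_span_fin_le (K := K) ![x, z]; omega)
  have hv' : v ∉ Submodule.span K {x, z} := by
    rwa [Matrix.range_cons, Matrix.range_cons, Matrix.range_empty, Set.union_empty, ← Set.insert_eq] at hvS
  refine ⟨![v, x, z], OData.indep_three (OData.indep_two hx0 hzS) hv', fun i => ?_⟩
  fin_cases i
  · exact ⟨hvv, (hW v).mp hv 0, (hW v).mp hv 1, (hW v).mp hv 2⟩
  · exact ⟨hxx, (hW x).mp hx 0, (hW x).mp hx 1, (hW x).mp hx 2⟩
  · exact ⟨hzz, (hW z).mp hz 0, (hW z).mp hz 1, (hW z).mp hz 2⟩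

theorem isRatPair_eight (hO : Over D M) (hn : 8 ≤ Fintype.card ι) (hno : ∀ c, Good D M c → c ∈ K) {w y : Vs}
    (hp : RootPair Q M w y) {t : Ks} (ht : D.rQ t = 0) (ht0 : t ≠ 0) (htw : polar Q w (ρR t) = 0)
    (hty : polar Q y (ρR t) = 0) : IsRatPair Q K P w y := by
  by_cases hdep : ∀ u v : Ks, pi2 Q w y (ρR u) (ρR v) = 0
  · exact fun u v => by rw [hdep]; exact K.zero_mem
  suffices hk : ∃ b₁ b₂ : Ks, ∀ u, D.rp u t = 0 → D.rp u b₁ = 0 → D.rp u b₂ = 0 →
      polar Q w (ρR u) = 0 ∧ polar Q y (ρR u) = 0 by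
    obtain ⟨b₁, b₂, hb⟩ := hk
    obtain ⟨t', hli, ht'⟩ := D.exists_three_eight hn t b₁ b₂
    refine D.ratPair_of_three hli fun k => ?_
    obtain ⟨h0, h1, h2, h3⟩ := ht' k
    exact D.ratPair_of_hno_eight hO hn hno hp h0 (hli.ne_zero k) (hb _ h1 h2 h3).1 (hb _ h1 h2 h3).2
  have hK := D.ratPair_of_hno_eight hO hn hno hp ht ht0 htw hty
  by_cases hnz : ∃ s a, D.rp s t = 0 ∧ D.rp a t = 0 ∧ pi2 Q w y (ρR s) (ρR a) ≠ 0
  · obtain ⟨s, a, hs, ha, hne⟩ := hnz
    have r1 : ∀ u, polar Q (polar Q y (ρR a) • w - polar Q w (ρR a) • y) (ρR u) = pi2 Q w y (ρR u) (ρR a) :=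
      fun u => by rw [polar_sub_left, polar_smul_left, polar_smul_left, pi2, smul_eq_mul, smul_eq_mul]; ring
    obtain ⟨b₁, hb₁⟩ := D.exists_rep_on_perp ht0 (v := polar Q y (ρR a) • w - polar Q w (ρR a) • y)
      fun u hu => by rw [r1]; exact hK u a hu ha
    have r2 : ∀ u, polar Q (polar Q w (ρR s) • y - polar Q y (ρR s) • w) (ρR u) = pi2 Q w y (ρR s) (ρR u) :=
      fun u => by rw [polar_sub_left, polar_smul_left, polar_smul_left, pi2, smul_eq_mul, smul_eq_mul]
    obtain ⟨b₂, hb₂⟩ := D.exists_rep_on_perp ht0 (v := polar Q w (ρR s) • y - polar Q y (ρR s) • w)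
      fun u hu => by rw [r2]; exact hK s u hs hu
    refine ⟨b₁, b₂, fun u hu h1 h2 => ?_⟩
    have e1 := hb₁ u hu
    have e2 := hb₂ u hu
    rw [r1, h1, ZeroMemClass.coe_zero] at e1
    rw [r2, h2, ZeroMemClass.coe_zero] at e2
    constructor
    · refine (mul_eq_zero.mp (?_ : pi2 Q w y (ρR s) (ρR a) * polar Q w (ρR u) = 0)).resolve_left hne
      simp only [pi2] at e1 e2 ⊢
      linear_combination polar Q w (ρR s) * e1 + polar Q w (ρR a) * e2
    · refine (mul_eq_zero.mp (?_ : pi2 Q w y (ρR s) (ρR a) * polar Q y (ρR u) = 0)).resolve_left hne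
      simp only [pi2] at e1 e2 ⊢
      linear_combination polar Q y (ρR s) * e1 + polar Q y (ρR a) * e2
  push Not at hnz
  by_cases hall : ∀ u, D.rp u t = 0 → polar Q w (ρR u) = 0 ∧ polar Q y (ρR u) = 0
  · exact ⟨0, 0, fun u hu _ _ => hall u hu⟩
  obtain ⟨u₀, hu₀, hne⟩ : ∃ u₀, D.rp u₀ t = 0 ∧ ¬ (polar Q w (ρR u₀) = 0 ∧ polar Q y (ρR u₀) = 0) := by
    push Not at hall
    obtain ⟨u, hu, h⟩ := hall
    exact ⟨u, hu, fun h' => h h'.1 h'.2⟩
  set α := polar Q w (ρR u₀) with hα
  set β := polar Q y (ρR u₀) with hβ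
  set v := β • w - α • y with hv
  obtain ⟨r₀, hr₀⟩ := D.exists_dual (u := ![t]) (linearIndependent_unique_iff.mpr (by simpa using ht0)) ![1]
  have hr₀' : D.rp r₀ t = 1 := hr₀ 0
  set ν := polar Q v (ρR r₀) with hν
  have hvt : v = ν • ρR t := by
    refine sub_eq_zero.mp (D.eq_zero_of_rat fun u => ?_)
    have h1 : polar Q v (ρR (u - D.rp u t • r₀)) = 0 := by
      have h2 := hnz u₀ (u - D.rp u t • r₀) hu₀
        (by rw [D.rp_sub_left, D.rp_smul_left, hr₀', mul_one, sub_self])
      rw [hv, polar_sub_left, polar_smul_left, polar_smul_left, smul_eq_mul, smul_eq_mul]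
      rw [pi2] at h2
      linear_combination -h2
    rw [ratVec_sub, ratVec_smul, polar_sub_right, polar_smul_right, smul_eq_mul, D.coe_rp] at h1
    rw [polar_comm (⇑Q) (ρR u), polar_sub_left, polar_smul_left, polar_comm (⇑Q) (ρR t) (ρR u), smul_eq_mul]
    linear_combination h1
  obtain ⟨hw, hy, hwy, hroot⟩ := hp
  have htt : Q (ρR t) = 0 := D.Q_rat_zero ht
  have hν0 : ν ≠ 0 := by
    intro hν0
    apply hdep
    intro u u'
    rw [hν0, zero_smul, hv, sub_eq_zero] at hvt
    have hx : ∀ x : Vs, β * polar Q w x = α * polar Q y x := fun x => by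
      have h := congrArg (fun z => polar Q z x) hvt
      simpa [polar_smul_left] using h
    by_contra h
    refine hne ⟨?_, ?_⟩
    · refine (mul_eq_zero.mp (?_ : α * pi2 Q w y (ρR u) (ρR u') = 0)).resolve_right h
      simp only [pi2]
      linear_combination polar Q w (ρR u') * hx (ρR u) - polar Q w (ρR u) * hx (ρR u')
    · refine (mul_eq_zero.mp (?_ : β * pi2 Q w y (ρR u) (ρR u') = 0)).resolve_right h
      simp only [pi2]
      linear_combination polar Q y (ρR u') * hx (ρR u) - polar Q y (ρR u) * hx (ρR u')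
  -- the root element has centre `t`
  obtain ⟨z, hQz, htz, hroot', hker⟩ : ∃ z : Vs, Q z = 0 ∧ polar Q (ρR t) z = 0 ∧ HasRoot Q M (ρR t) z ∧
      ∀ u : Ks, D.rp u t = 0 → polar Q z (ρR u) = 0 → polar Q w (ρR u) = 0 ∧ polar Q y (ρR u) = 0 := by
    have htu : ∀ u : Ks, D.rp u t = 0 → β * polar Q w (ρR u) = α * polar Q y (ρR u) := fun u hu => by
      have h := congrArg (fun z => polar Q z (ρR u)) hvt
      simp only [hv, polar_sub_left, polar_smul_left, polar_comm (⇑Q) (ρR t) (ρR u), D.polar_rat_zero hu,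
        smul_eq_mul, mul_zero] at h
      linear_combination h
    obtain ⟨g, hg, eg⟩ := hroot
    by_cases hβ0 : β = 0
    · have hα0 : α ≠ 0 := fun e => hne ⟨e, hβ0⟩
      have hyt : y = (-(ν / α)) • ρR t := by
        rw [hv, hβ0, zero_smul, zero_sub] at hvt
        rw [neg_smul, ← smul_right_inj hα0, smul_neg, smul_smul, mul_div_cancel₀ _ hα0, ← hvt, neg_neg]
      refine ⟨(ν / α) • w, by rw [QuadraticMap.map_smul, hw, smul_zero],
        by rw [polar_smul_right, polar_comm, htw, smul_zero], ⟨g, hg, fun x => ?_⟩, fun u hu h => ⟨?_, ?_⟩⟩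
      · rw [eg, hy, QuadraticMap.map_smul, hw, hyt]
        simp only [polar_smul_right, smul_eq_mul]
        match_scalars <;> ring
      · rw [polar_smul_left, smul_eq_mul] at h
        exact (mul_eq_zero.mp h).resolve_left (div_ne_zero hν0 hα0)
      · rw [hyt, polar_smul_left, polar_comm (⇑Q) (ρR t) (ρR u), D.polar_rat_zero hu, smul_zero]
    · have hwt : w = (ν / β) • ρR t + (α / β) • y := by
        have h : β • w = ν • ρR t + α • y := by rw [← hvt, hv, sub_add_cancel]
        rw [← smul_right_inj hβ0, h, smul_add, smul_smul, smul_smul, mul_div_cancel₀ _ hβ0,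
          mul_div_cancel₀ _ hβ0]
      refine ⟨(ν / β) • y, by rw [QuadraticMap.map_smul, hy, smul_zero],
        by rw [polar_smul_right, polar_comm, hty, smul_zero], ⟨g, hg, fun x => ?_⟩, fun u hu h => ?_⟩
      · rw [eg, hy, QuadraticMap.map_smul, hy, hwt]
        simp only [polar_add_right, polar_smul_right, smul_eq_mul]
        match_scalars <;> ring
      · rw [polar_smul_left, smul_eq_mul] at h
        have hy0 := (mul_eq_zero.mp h).resolve_left (div_ne_zero hν0 hβ0)
        refine ⟨?_, hy0⟩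
        have h1 := htu u hu
        rw [hy0, mul_zero] at h1
        exact (mul_eq_zero.mp h1).resolve_left hβ0
  have hzK : ∀ u : Ks, D.rp u t = 0 → polar Q z (ρR u) ∈ K := by
    obtain ⟨c, hct, hc, hcS⟩ := D.exists_sing_perp_notMem ![t] (Submodule.span K {t}) (by omega)
      (by rw [finrank_span_singleton ht0]; omega)
    let S : Submodule K Ks :=
      { carrier := {u | polar Q z (ρR u) ∈ K}
        add_mem' := fun {x x'} hx hx' => by
          simp only [Set.mem_setOf_eq] at hx hx' ⊢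
          rw [ratVec_add, polar_add_right]; exact K.add_mem hx hx'
        zero_mem' := by
          simp only [Set.mem_setOf_eq, ratVec_zero, polar_zero_right]
          exact K.zero_mem
        smul_mem' := fun k x hx => by
          simp only [Set.mem_setOf_eq] at hx ⊢
          rw [ratVec_smul, polar_smul_right]; exact K.mul_mem k.2 hx }
    intro u hu
    refine D.sing_perp_mem ![t] (by omega) S (fun x hx hxx => hno _ ?_) (fun i => by fin_cases i; exact hu)
    exact D.good_of_pair_eight hO hn (OData.indep_two ht0 hcS) ht hc (by rw [D.rp_comm]; exact hct 0)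
      (D.spread_eight hO hn ht htz hroot' hxx hc (hx 0) (hct 0))
  obtain ⟨b, hb⟩ := D.exists_rep_on_perp ht0 hzK
  refine ⟨b, 0, fun u hu h1 _ => hker u hu ?_⟩
  rw [hb u hu, h1, ZeroMemClass.coe_zero]

theorem exists_triData_eight (hn : 8 ≤ Fintype.card ι) {w y : Vs}
    (hne : ¬ ∀ u v : Ks, pi2 Q w y (ρR u) (ρR v) = 0)
    (hfull : ∀ t : Ks, D.rQ t = 0 → t ≠ 0 → ¬ (polar Q w (ρR t) = 0 ∧ polar Q y (ρR t) = 0)) :
    ∃ a b c, TriData D w y a b c := by
  obtain ⟨a, b, ha, hb, hab, hD⟩ : ∃ a b, D.rQ a = 0 ∧ D.rQ b = 0 ∧ D.rp a b = 0 ∧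
      pi2 Q w y (ρR a) (ρR b) ≠ 0 := by
    by_contra hall
    push Not at hall
    apply hne
    have key : ∀ a b, D.rQ a = 0 → D.rQ b = 0 → pi2 Q w y (ρR a) (ρR b) = 0 := by
      intro a b ha hb
      obtain ⟨c, hc, hcc, hcS⟩ := D.exists_sing_perp_notMem ![a, b] ⊥ (by omega) (by rw [finrank_bot]; omega)
      have h1 := hall a c ha hcc (by rw [D.rp_comm]; exact hc 0)
      have h2 := hall c b hcc hb (hc 1)
      obtain ⟨k1, k2⟩ := pi2_cramer (Q := Q) w y (ρR a) (ρR b) (ρR c)
      rw [h1, h2] at k1 k2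
      simp only [zero_mul, add_zero] at k1 k2
      by_contra h
      exact hfull c hcc (OData.ne_zero_of_notMem hcS)
        ⟨(mul_eq_zero.mp k1).resolve_left h, (mul_eq_zero.mp k2).resolve_left h⟩
    intro u v
    let S : Vs → Submodule K Ks := fun z =>
      { carrier := {u | pi2 Q w y (ρR u) z = 0}
        add_mem' := fun {x x'} hx hx' => by
          simp only [Set.mem_setOf_eq] at hx hx' ⊢
          rw [ratVec_add, pi2_add_left, hx, hx', add_zero]
        zero_mem' := by simp [ratVec_zero, pi2]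
        smul_mem' := fun k x hx => by
          simp only [Set.mem_setOf_eq] at hx ⊢
          rw [ratVec_smul, pi2_smul_left, hx, mul_zero] }
    have half : ∀ a, D.rQ a = 0 → ∀ u, pi2 Q w y (ρR u) (ρR a) = 0 := fun a ha u =>
      D.sing_perp_mem (![] : Fin 0 → Ks) (by omega) (S (ρR a)) (fun x _ hx => key x a hx ha) (x := u)
        (fun i => i.elim0)
    have h : pi2 Q w y (ρR v) (ρR u) = 0 :=
      D.sing_perp_mem (![] : Fin 0 → Ks) (by omega) (S (ρR u)) (fun x _ hx => by
        show pi2 Q w y (ρR x) (ρR u) = 0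
        rw [pi2_comm, half x hx u, neg_zero]) (x := v) (fun i => i.elim0)
    rw [pi2_comm, h, neg_zero]
  have hliab : LinearIndependent K ![a, b] := by
    rw [LinearIndependent.pair_iff]
    intro s t e
    have e' : (s : F) • ρR a + (t : F) • ρR b = 0 := by rw [← ratVec_smul, ← ratVec_smul, ← ratVec_add, e, ratVec_zero]
    have h1 : (s : F) * pi2 Q w y (ρR a) (ρR b) = 0 := by
      have h := congrArg (fun z => pi2 Q w y z (ρR b)) e'
      simp only [pi2_add_left, pi2_smul_left] at h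
      simpa [pi2, mul_comm] using h
    have h2 : (t : F) * pi2 Q w y (ρR a) (ρR b) = 0 := by
      have h := congrArg (fun z => pi2 Q w y (ρR a) z) e'
      simp only [pi2, polar_add_right, polar_smul_right, polar_zero_right, smul_eq_mul] at h ⊢
      linear_combination h
    exact ⟨Subtype.ext ((mul_eq_zero.mp h1).resolve_right hD), Subtype.ext ((mul_eq_zero.mp h2).resolve_right hD)⟩
  obtain ⟨c, hc, hcc, hcS⟩ := D.exists_sing_perp_notMem ![a, b] (Submodule.span K (Set.range ![a, b])) (by omega)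
    (by have := OData.finrank_span_fin_le (K := K) ![a, b]; omega)
  have hca : D.rp c a = 0 := hc 0
  have hcb : D.rp c b = 0 := hc 1
  have hcS' : c ∉ Submodule.span K {a, b} := by
    rwa [Matrix.range_cons, Matrix.range_cons, Matrix.range_empty, Set.union_empty, ← Set.insert_eq] at hcS
  refine ⟨a, b, c, ha, hb, hcc, hab, (D.rp_comm a c).trans hca, (D.rp_comm b c).trans hcb,
    OData.indep_three hliab hcS', hD, ?_⟩
  rintro ⟨h1, h2⟩
  set k₁ : K := ⟨_, h1⟩ with hk₁
  set k₂ : K := ⟨_, h2⟩ with hk₂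
  set t := c - k₁ • a - k₂ • b with ht
  refine hfull t ?_ (fun e => hcS' ?_) ?_
  · rw [ht, sub_eq_add_neg, sub_eq_add_neg, D.rQ_add, D.rQ_add, ← neg_smul, ← neg_smul, D.rQ_smul, D.rQ_smul]
    simp only [D.rp_add_left, D.rp_smul_left, D.rp_smul_right, ha, hb, hcc, hca, hcb, hab]
    ring
  · rw [ht, sub_sub, sub_eq_zero] at e
    rw [e]
    exact Submodule.add_mem _ (Submodule.smul_mem _ _ (Submodule.subset_span (by simp)))
      (Submodule.smul_mem _ _ (Submodule.subset_span (by simp)))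
  · obtain ⟨e1, e2⟩ := pi2_cramer (Q := Q) w y (ρR a) (ρR b) (ρR c)
    simp only [ht, ratVec_sub, ratVec_smul, polar_sub_right, polar_smul_right, smul_eq_mul, hk₁, hk₂]
    constructor <;> field_simp
    · linear_combination e1
    · linear_combination e2

theorem exists_kernel_vec_eight (hO : Over D M) (hn : 8 ≤ Fintype.card ι) (hno : ∀ c, Good D M c → c ∈ K) {w y : Vs}
    (hp : RootPair Q M w y) (hne : ¬ ∀ u v : Ks, pi2 Q w y (ρR u) (ρR v) = 0) :
    ∃ t : Ks, D.rQ t = 0 ∧ t ≠ 0 ∧ polar Q w (ρR t) = 0 ∧ polar Q y (ρR t) = 0 := by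
  by_contra hex
  have hfull : ∀ t : Ks, D.rQ t = 0 → t ≠ 0 → ¬ (polar Q w (ρR t) = 0 ∧ polar Q y (ρR t) = 0) :=
    fun t h1 h2 h3 => hex ⟨t, h1, h2, h3.1, h3.2⟩
  obtain ⟨a, b, c, hT⟩ := D.exists_triData_eight hn hne hfull
  set d := pi2 Q w y (ρR a) (ρR b) with hd
  have hd0 : d ≠ 0 := hT.ne
  set k₁ := pi2 Q w y (ρR c) (ρR b) / d with hk₁
  set k₂ := pi2 Q w y (ρR a) (ρR c) / d with hk₂
  set ρ := ρR c - k₁ • ρR a - k₂ • ρR b with hρ
  obtain ⟨g, hg, p, e₁, e₂, hp1, ga, gb, gF⟩ := D.exists_triMove hO hp hT hk₁ hk₂ hρ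
  have pab : polar Q (ρR a) (ρR b) = 0 := D.polar_rat_zero hT.ab
  have pac : polar Q (ρR a) (ρR c) = 0 := D.polar_rat_zero hT.ac
  have pbc : polar Q (ρR b) (ρR c) = 0 := D.polar_rat_zero hT.bc
  have paa : polar Q (ρR a) (ρR a) = 0 := by rw [polar_self, D.Q_rat_zero hT.sa, smul_zero]
  have pbb : polar Q (ρR b) (ρR b) = 0 := by rw [polar_self, D.Q_rat_zero hT.sb, smul_zero]
  have pcc : polar Q (ρR c) (ρR c) = 0 := by rw [polar_self, D.Q_rat_zero hT.sc, smul_zero]
  have gρ : g ρ = ρ := by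
    obtain ⟨c1, c2⟩ := pi2_cramer (Q := Q) w y (ρR a) (ρR b) (ρR c)
    have f1 : pi2 Q w y (ρR c) (ρR b) = k₁ * d := by rw [hk₁, div_mul_cancel₀ _ hd0]
    have f2 : pi2 Q w y (ρR a) (ρR c) = k₂ * d := by rw [hk₂, div_mul_cancel₀ _ hd0]
    rw [f1, f2, ← hd] at c1 c2
    refine gF _ ?_ ?_ ?_ ?_ ?_
    · simp [hρ, polar_sub_left, polar_smul_left, paa, polar_comm (⇑Q) (ρR b) (ρR a), pab,
        polar_comm (⇑Q) (ρR c) (ρR a), pac]
    · simp [hρ, polar_sub_left, polar_smul_left, pbb, pab, polar_comm (⇑Q) (ρR c) (ρR b), pbc]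
    · simp [hρ, polar_sub_left, polar_smul_left, pcc, pac, pbc]
    · rw [polar_comm (⇑Q) ρ w, hρ]
      simp only [polar_sub_right, polar_smul_right, smul_eq_mul]
      refine (mul_eq_zero.mp (?_ : d * _ = 0)).resolve_left hd0
      linear_combination c1
    · rw [polar_comm (⇑Q) ρ y, hρ]
      simp only [polar_sub_right, polar_smul_right, smul_eq_mul]
      refine (mul_eq_zero.mp (?_ : d * _ = 0)).resolve_left hd0
      linear_combination c2
  have hc : ρR c = ρ + k₁ • ρR a + k₂ • ρR b := by rw [hρ]; module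
  -- coordinates on the totally singular space
  set E := e₁ * k₁ + e₂ * k₂ with hE
  have Ga : g (ρR a) = (p - e₁ * k₁) • ρR a + (-(e₁ * k₂)) • ρR b + e₁ • ρR c := by rw [ga, hρ]; module
  have Gb : g (ρR b) = (-(e₂ * k₁)) • ρR a + (p - e₂ * k₂) • ρR b + e₂ • ρR c := by rw [gb, hρ]; module
  have Gc : g (ρR c) = (k₁ * (p - 1 - E)) • ρR a + (k₂ * (p - 1 - E)) • ρR b + (1 + E) • ρR c := by
    have h0 : g (ρR c) = ρ + k₁ • g (ρR a) + k₂ • g (ρR b) := by
      conv_lhs => rw [hc]
      rw [map_add, map_add, map_smul, map_smul, gρ]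
    rw [h0, Ga, Gb, hρ, hE]
    module
  obtain ⟨ra, hra⟩ := D.exists_dual hT.indep ![0, 1, 0]
  obtain ⟨rb, hrb⟩ := D.exists_dual hT.indep ![0, 0, 1]
  obtain ⟨rc, hrc⟩ := D.exists_dual hT.indep ![1, 0, 0]
  have m0 : ∀ {r u : Ks}, D.rp r u = 0 → polar Q (ρR u) (ρR r) = 0 := fun h => by
    rw [polar_comm, D.polar_rat_zero h]
  have m1 : ∀ {r u : Ks}, D.rp r u = 1 → polar Q (ρR u) (ρR r) = 1 := fun h => by
    rw [polar_comm, D.polar_rat_one h]
  have co : ∀ x y z : F,
      polar Q (x • ρR a + y • ρR b + z • ρR c) (ρR ra) = x ∧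
      polar Q (x • ρR a + y • ρR b + z • ρR c) (ρR rb) = y ∧
      polar Q (x • ρR a + y • ρR b + z • ρR c) (ρR rc) = z ∧
      polar Q (x • ρR a + y • ρR b + z • ρR c) (ρR a) = 0 := fun x y z => by
    refine ⟨?_, ?_, ?_, ?_⟩ <;> simp only [polar_add_left, polar_smul_left, smul_eq_mul]
    · rw [m1 (show D.rp ra a = 1 from hra 1), m0 (show D.rp ra b = 0 from hra 2), m0 (show D.rp ra c = 0 from hra 0)]
      ring
    · rw [m0 (show D.rp rb a = 0 from hrb 1), m1 (show D.rp rb b = 1 from hrb 2), m0 (show D.rp rb c = 0 from hrb 0)]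
      ring
    · rw [m0 (show D.rp rc a = 0 from hrc 1), m0 (show D.rp rc b = 0 from hrc 2), m1 (show D.rp rc c = 1 from hrc 0)]
      ring
    · rw [paa, polar_comm (⇑Q) (ρR b), pab, polar_comm (⇑Q) (ρR c), pac]
      ring
  have ha0 : a ≠ 0 := hT.indep.ne_zero 1
  have za : ∀ u : Ks, u = a ∨ u = b ∨ u = c → polar Q (g (ρR u)) (ρR a) = 0 := by
    rintro u (rfl | rfl | rfl)
    · rw [Ga]; exact (co _ _ _).2.2.2
    · rw [Gb]; exact (co _ _ _).2.2.2
    · rw [Gc]; exact (co _ _ _).2.2.2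
  have rat : ∀ u v : Ks, (u = a ∨ u = b ∨ u = c) → (v = a ∨ v = b ∨ v = c) → D.rQ u = 0 → D.rQ v = 0 →
      D.rp u v = 0 → IsRatPair Q K P (g (ρR u)) (g (ρR v)) := fun u v mu mv hu hv huv =>
    D.isRatPair_eight hO hn hno
      ⟨by rw [hO.iso g hg, D.Q_rat_zero hu], by rw [hO.iso g hg, D.Q_rat_zero hv],
        by rw [Classical.isometry_polar (hO.iso g hg), D.polar_rat_zero huv],
        hasRoot_conj hO.iso hg (hO.rat u v hu hv huv)⟩ hT.sa ha0 (za u mu) (za v mv)
  have Rab := rat a b (Or.inl rfl) (Or.inr (Or.inl rfl)) hT.sa hT.sb hT.ab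
  have Rac := rat a c (Or.inl rfl) (Or.inr (Or.inr rfl)) hT.sa hT.sc hT.ac
  have Rcb := rat c b (Or.inr (Or.inr rfl)) (Or.inr (Or.inl rfl)) hT.sc hT.sb
    (by rw [D.rp_comm]; exact hT.bc)
  have hA : p * p - p * E ∈ K := by
    convert Rab ra rb using 1
    simp only [pi2, Ga, Gb, co]; rw [hE]; ring
  have hB : p * e₂ ∈ K := by
    convert Rab ra rc using 1
    simp only [pi2, Ga, Gb, co]; ring
  have hC : p * e₁ ∈ K := by
    convert Rab rc rb using 1
    simp only [pi2, Ga, Gb, co]; ring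
  have h2p : p + k₂ * (p * e₂) ∈ K := by
    convert Rac ra rc using 1
    simp only [pi2, Ga, Gc, co]; rw [hE]; ring
  have h2A : k₂ * (p * p - p * E - p) ∈ K := by
    convert Rac ra rb using 1
    simp only [pi2, Ga, Gc, co]; rw [hE]; ring
  have h2C : k₂ * (p * e₁) ∈ K := by
    convert Rac rc rb using 1
    simp only [pi2, Ga, Gc, co]; rw [hE]; ring
  have h1p : p + k₁ * (p * e₁) ∈ K := by
    convert Rcb rc rb using 1
    simp only [pi2, Gb, Gc, co]; rw [hE]; ring
  have h1A : k₁ * (p * p - p * E - p) ∈ K := by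
    convert Rcb ra rb using 1
    simp only [pi2, Gb, Gc, co]; rw [hE]; ring
  have h1B : k₁ * (p * e₂) ∈ K := by
    convert Rcb ra rc using 1
    simp only [pi2, Gb, Gc, co]; rw [hE]; ring
  have hp0 : p ≠ 0 := by
    intro hp0
    by_cases he : e₁ = 0
    · have h0 : g (ρR a) = 0 := by rw [ga, hp0, he]; simp
      exact ha0 (by rwa [map_eq_zero_iff _ g.injective, ratVec_eq_zero] at h0)
    · have h0 : g (ρR a) = g (e₁ • ρ) := by rw [map_smul, gρ, ga, hp0]; simp
      have h1 := congrArg (fun z => polar Q z (ρR rc)) (g.injective h0)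
      have h2 : polar Q ρ (ρR rc) = 1 := by
        rw [show ρ = (-k₁) • ρR a + (-k₂) • ρR b + (1 : F) • ρR c by rw [hρ]; module]
        exact (co _ _ _).2.2.1
      simp only [polar_smul_left, smul_eq_mul, h2, m0 (show D.rp rc a = 0 from hrc 1)] at h1
      exact he (by simpa using h1.symm)
  -- the coefficients of the move are rational, so they vanish
  have cancel : ∀ {k x : F}, k ∉ K → x ∈ K → k * x ∈ K → x = 0 := fun {k x} hk hx h => by
    by_contra hx0
    exact hk (by simpa [mul_div_cancel_right₀ k hx0] using K.div_mem h hx)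
  have hout := hT.out
  rw [← hd, ← hk₁, ← hk₂, not_and_or] at hout
  apply hp1
  rcases hout with hk | hk
  · have hB0 := cancel hk hB h1B
    rw [hB0, mul_zero, add_zero] at h2p
    have hC0 := cancel hk hC (by simpa using K.sub_mem h1p h2p)
    have hA0 := cancel hk (K.sub_mem hA h2p) h1A
    obtain rfl := (mul_eq_zero.mp hC0).resolve_left hp0
    obtain rfl := (mul_eq_zero.mp hB0).resolve_left hp0
    refine mul_left_cancel₀ hp0 (?_ : p * p = p * 1)
    rw [hE] at hA0
    linear_combination hA0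
  · have hC0 := cancel hk hC h2C
    rw [hC0, mul_zero, add_zero] at h1p
    have hB0 := cancel hk hB (by simpa using K.sub_mem h2p h1p)
    have hA0 := cancel hk (K.sub_mem hA h1p) h2A
    obtain rfl := (mul_eq_zero.mp hC0).resolve_left hp0
    obtain rfl := (mul_eq_zero.mp hB0).resolve_left hp0
    refine mul_left_cancel₀ hp0 (?_ : p * p = p * 1)
    rw [hE] at hA0
    linear_combination hA0

theorem exists_nonRatPair_eight (hO : Over D M) (hn : 8 ≤ Fintype.card ι) {g : Vs ≃ₗ[F] Vs} (hg : g ∈ M)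
    (hgK : ¬ ∃ l : F, l ≠ 0 ∧ ∀ u : Ks, ∃ v : Ks, g (ρR u) = l • ρR v) :
    ∃ a b : Ks, D.rQ a = 0 ∧ D.rQ b = 0 ∧ D.rp a b = 0 ∧ LinearIndependent K ![a, b] ∧
      ¬ IsRatPair Q K P (g (ρR a)) (g (ρR b)) := by
  by_contra hno
  push Not at hno
  have hline : ∀ a : Ks, D.rQ a = 0 → a ≠ 0 → ∃ (l : F) (v : Ks), g (ρR a) = l • ρR v := by
    intro a ha ha0
    obtain ⟨b, hb, hbb, hbS⟩ := D.exists_sing_perp_notMem ![a] (Submodule.span K {a}) (by omega)
      (by rw [finrank_span_singleton ha0]; omega)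
    obtain ⟨c, hc, hcc, hcS⟩ := D.exists_sing_perp_notMem ![a] (Submodule.span K (Set.range ![a, b])) (by omega)
      (by have := OData.finrank_span_fin_le (K := K) ![a, b]; omega)
    have hlab := OData.indep_two ha0 hbS
    have hlac : LinearIndependent K ![a, c] := OData.indep_two ha0 fun h => hcS (Submodule.span_mono (by simp) h)
    obtain ⟨c₁, c₂, α₁, α₂, β₁, β₂, hw, hy⟩ := D.exists_plane (hno a b ha hbb ((D.rp_comm a b).trans (hb 0)) hlab)
      (D.pi2_ne_zero hlab)
    obtain ⟨d₁, d₂, γ₁, γ₂, ε₁, ε₂, hw', hy'⟩ := D.exists_plane (hno a c ha hcc ((D.rp_comm a c).trans (hc 0)) hlac)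
      (D.pi2_ne_zero hlac)
    by_cases h1 : c₁ ∈ Submodule.span K (Set.range ![d₁, d₂])
    swap
    · exact D.line_of_planes hw hw' h1
    by_cases h2 : c₂ ∈ Submodule.span K (Set.range ![d₁, d₂])
    swap
    · exact D.line_of_planes (hw.trans (add_comm _ _)) hw' h2
    exfalso
    set W := Submodule.span F (Set.range ![ρR d₁, ρR d₂]) with hW
    have hmem : ∀ v ∈ Submodule.span K (Set.range ![d₁, d₂]), ρR v ∈ W := by
      intro v hv
      obtain ⟨x, rfl⟩ := (Submodule.mem_span_range_iff_exists_fun K).mp hv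
      rw [Fin.sum_univ_two, ratVec_add, ratVec_smul, ratVec_smul]
      exact W.add_mem (W.smul_mem _ (Submodule.subset_span ⟨0, rfl⟩)) (W.smul_mem _ (Submodule.subset_span ⟨1, rfl⟩))
    have hli3 : LinearIndependent K ![c, a, b] := linearIndependent_finCons.mpr ⟨hlab, hcS⟩
    have hliF : LinearIndependent F ![g (ρR c), g (ρR a), g (ρR b)] := by
      have h0 : LinearIndependent F ![ρR c, ρR a, ρR b] := by
        rw [Fintype.linearIndependent_iff]
        intro x hx
        rw [Fin.sum_univ_three] at hx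
        intro i
        obtain ⟨r, hr⟩ := D.exists_dual hli3 (Pi.single i 1)
        have h := congrArg (fun z => polar Q z (ρR r)) hx
        have key : ∀ v (k : K), D.rp r v = k → polar Q (ρR v) (ρR r) = (k : F) := fun v k h => by
          rw [polar_comm, D.polar_rat_eq h]
        have k0 := key c _ (hr 0)
        have k1 := key a _ (hr 1)
        have k2 := key b _ (hr 2)
        simp only [Matrix.cons_val_zero, Matrix.cons_val_one, Matrix.cons_val_two, Matrix.head_cons, Matrix.tail_cons,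
          polar_add_left, polar_smul_left, k0, k1, k2, polar_zero_left, smul_eq_mul] at h
        fin_cases i <;> simpa using h
      have h1 := h0.map' g.toLinearMap g.ker
      rw [show ![g (ρR c), g (ρR a), g (ρR b)] = ⇑g.toLinearMap ∘ ![ρR c, ρR a, ρR b] by
        funext i; fin_cases i <;> rfl]
      exact h1
    have hsub : Submodule.span F (Set.range ![g (ρR c), g (ρR a), g (ρR b)]) ≤ W := by
      refine Submodule.span_le.mpr ?_
      rintro _ ⟨i, rfl⟩
      fin_cases i
      · show g (ρR c) ∈ W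
        rw [hy']
        exact W.add_mem (W.smul_mem _ (Submodule.subset_span ⟨0, rfl⟩)) (W.smul_mem _ (Submodule.subset_span ⟨1, rfl⟩))
      · show g (ρR a) ∈ W
        rw [hw]
        exact W.add_mem (W.smul_mem _ (hmem _ h1)) (W.smul_mem _ (hmem _ h2))
      · show g (ρR b) ∈ W
        rw [hy]
        exact W.add_mem (W.smul_mem _ (hmem _ h1)) (W.smul_mem _ (hmem _ h2))
    have h3 := Submodule.finrank_mono hsub
    rw [finrank_span_eq_card hliF, Fintype.card_fin] at h3
    have h4 : Module.finrank F W ≤ 2 := by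
      simpa [Set.finrank, hW] using finrank_range_le_card (R := F) ![ρR d₁, ρR d₂]
    omega
  choose l v hlv using hline
  have hl0 : ∀ a ha ha0, l a ha ha0 ≠ 0 := fun a ha ha0 e => by
    have h := hlv a ha ha0
    rw [e, zero_smul, map_eq_zero_iff _ g.injective, ratVec_eq_zero] at h
    exact ha0 h
  have hprod : ∀ a b (ha : D.rQ a = 0) (hb : D.rQ b = 0) (ha0 : a ≠ 0) (hb0 : b ≠ 0), D.rp a b = 0 →
      LinearIndependent K ![a, b] → l a ha ha0 * l b hb hb0 ∈ K := by
    intro a b ha hb ha0 hb0 hab hli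
    have hrat := hno a b ha hb hab hli
    have hne := D.pi2_ne_zero (g := g) hli
    push Not at hne
    obtain ⟨u, u', hp⟩ := hne
    rw [hlv a ha ha0, hlv b hb hb0] at hp hrat
    have e : ∀ x x' : Vs, pi2 Q (l a ha ha0 • ρR (v a ha ha0)) (l b hb hb0 • ρR (v b hb hb0)) x x'
        = l a ha ha0 * l b hb hb0 * pi2 Q (ρR (v a ha ha0)) (ρR (v b hb hb0)) x x' := fun x x' => by
      simp only [pi2, polar_smul_left, smul_eq_mul]; ring
    have h1 := hrat u u'
    rw [e] at hp h1
    rw [← mul_div_cancel_right₀ (l a ha ha0 * l b hb hb0) (right_ne_zero_of_mul hp)]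
    exact K.div_mem h1 (K.sub_mem (K.mul_mem (D.mem_polar _ _) (D.mem_polar _ _))
      (K.mul_mem (D.mem_polar _ _) (D.mem_polar _ _)))
  obtain ⟨e, -, he, heS⟩ := D.exists_sing_perp_notMem (![] : Fin 0 → Ks) ⊥ (by omega) (by rw [finrank_bot]; omega)
  have he0 := OData.ne_zero_of_notMem heS
  have key : ∀ a (ha : D.rQ a = 0) (ha0 : a ≠ 0), l a ha ha0 / l e he he0 ∈ K := by
    intro a ha ha0
    obtain ⟨c, hc, hcc, hcS⟩ := D.exists_sing_perp_notMem ![a, e] (Submodule.span K (Set.range ![a, e])) (by omega)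
      (by have := OData.finrank_span_fin_le (K := K) ![a, e]; omega)
    have hc0 := OData.ne_zero_of_notMem hcS
    have h1 := hprod a c ha hcc ha0 hc0 ((D.rp_comm a c).trans (hc 0))
      (OData.indep_two ha0 fun h => hcS (Submodule.span_mono (by simp) h))
    have h2 := hprod e c he hcc he0 hc0 ((D.rp_comm e c).trans (hc 1))
      (OData.indep_two he0 fun h => hcS (Submodule.span_mono (by simp) h))
    rw [← mul_div_mul_right (l a ha ha0) (l e he he0) (hl0 c hcc hc0)]
    exact K.div_mem h1 h2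
  let S : Submodule K Ks :=
    { carrier := {u | ∃ v : Ks, g (ρR u) = l e he he0 • ρR v}
      add_mem' := by
        rintro a b ⟨va, ha⟩ ⟨vb, hb⟩
        exact ⟨va + vb, by rw [ratVec_add, map_add, ha, hb, ratVec_add, smul_add]⟩
      zero_mem' := ⟨0, by rw [ratVec_zero, map_zero, smul_zero]⟩
      smul_mem' := by
        rintro k a ⟨va, ha⟩
        exact ⟨k • va, by rw [ratVec_smul, map_smul, ha, ratVec_smul, smul_comm]⟩ }
  refine hgK ⟨l e he he0, hl0 e he he0, fun u => D.sing_perp_mem (![] : Fin 0 → Ks) (by omega) S (fun x _ hx => ?_)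
    (fun i => i.elim0)⟩
  by_cases hx0 : x = 0
  · subst hx0; exact S.zero_mem
  refine ⟨(⟨_, key x hx hx0⟩ : K) • v x hx hx0, ?_⟩
  rw [hlv x hx hx0, ratVec_smul, smul_smul, mul_div_cancel₀ _ (hl0 e he he0)]

theorem good_of_not_stab_eight (hO : Over D M) (hn : 8 ≤ Fintype.card ι) (r : ℕ) (hr : r.Prime)
    (hcard : Nat.card F = Nat.card K ^ r) {g : Vs ≃ₗ[F] Vs} (hg : g ∈ M)
    (hgK : ¬ ∃ l : F, l ≠ 0 ∧ ∀ u : Ks, ∃ v : Ks, g (ρR u) = l • ρR v) (x : F) : Good D M x := by
  obtain ⟨c, hgood, hc⟩ : ∃ c, Good D M c ∧ c ∉ K := by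
    by_contra hno
    push Not at hno
    obtain ⟨a, b, ha, hb, hab, hli, hrat⟩ := D.exists_nonRatPair_eight hO hn hg hgK
    have hp : RootPair Q M (g (ρR a)) (g (ρR b)) :=
      ⟨by rw [hO.iso g hg, D.Q_rat_zero ha], by rw [hO.iso g hg, D.Q_rat_zero hb],
        by rw [Classical.isometry_polar (hO.iso g hg), D.polar_rat_zero hab],
        hasRoot_conj hO.iso hg (hO.rat a b ha hb hab)⟩
    obtain ⟨t, ht, ht0, htw, hty⟩ := D.exists_kernel_vec_eight hO hn hno hp (D.pi2_ne_zero hli)
    exact hrat (D.isRatPair_eight hO hn hno hp ht ht0 htw hty)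
  exact D.good_all_eight hO hn r hr hcard hc hgood x

theorem hasRoot_all_eight (hn : 8 ≤ Fintype.card ι) (hgood : ∀ x, Good D M x) {f : Ks} (hf0 : f ≠ 0)
    (hf : D.rQ f = 0) {w : Vs} (hw : polar Q w (ρR f) = 0) : HasRoot Q M (ρR f) w := by
  let S : Vs → Prop := fun w => polar Q (ρR f) w = 0 ∧ HasRoot Q M (ρR f) w
  have hadd : ∀ u v, S u → S v → S (u + v) := fun u v hu hv =>
    ⟨by rw [polar_add_right, hu.1, hv.1, add_zero], hasRoot_mul (D.Q_rat_zero hf) hu.1 hv.1 hu.2 hv.2⟩
  have hzero : S 0 := ⟨polar_zero_right _ _, hasRoot_zero_right⟩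
  let T : Submodule K Ks :=
    { carrier := {u | ∀ y : F, S (y • ρR u)}
      add_mem' := fun {u v} hu hv y => by
        rw [ratVec_add, smul_add]
        exact hadd _ _ (hu y) (hv y)
      zero_mem' := fun y => by rw [ratVec_zero, smul_zero]; exact hzero
      smul_mem' := fun k u hu y => by
        rw [ratVec_smul, smul_smul]
        exact hu _ }
  have hT : ∀ u, D.rp u f = 0 → ∀ y : F, S (y • ρR u) := fun u hu =>
    D.sing_perp_mem ![f] (by omega) T (fun x hx hxx y =>
      ⟨by rw [polar_smul_right, D.polar_rat_zero ((D.rp_comm f x).trans (hx 0)), smul_zero],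
        hgood y f x hf hxx ((D.rp_comm f x).trans (hx 0))⟩) (fun i => by fin_cases i; exact hu)
  obtain ⟨e, he⟩ := D.exists_dual (u := ![f]) (linearIndependent_unique_iff.mpr (by simpa using hf0)) ![1]
  have hef : D.rp e f = 1 := he 0
  set E : ι → Ks := fun i => Pi.single i 1
  set co := ((P⁻¹ : GL ι F) : Matrix ι ι F) *ᵥ w
  have hwsum : w = ∑ i, co i • ρR (E i - D.rp (E i) f • e) := by
    have h0 : w = ∑ i, co i • ρR (E i) := eq_sum_ratVec w
    have h1 : ∑ i, co i * polar Q (ρR (E i)) (ρR f) = 0 := by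
      have h := congrArg ((QuadraticMap.polarBilin Q).flip (ρR f)) h0
      rw [map_sum] at h
      simp only [map_smul, smul_eq_mul] at h
      change polar Q w (ρR f) = ∑ i, co i * polar Q (ρR (E i)) (ρR f) at h
      rw [← h, hw]
    simp only [ratVec_sub, ratVec_smul, smul_sub, smul_smul, coe_rp]
    rw [Finset.sum_sub_distrib, ← Finset.sum_smul, h1, zero_smul, sub_zero, ← h0]
  rw [hwsum]
  refine (Finset.sum_induction _ S hadd hzero fun i _ => hT _ ?_ _).2
  rw [D.rp_sub_left, D.rp_smul_left, hef, mul_one, sub_self]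

theorem commutator_mem_eight (hn : 8 ≤ Fintype.card ι) (hgood : ∀ x, Good D M x) {a b : Vs ≃ₗ[F] Vs}
    (ha : a ∈ Classical.isoGroup ⇑Q) (hb : b ∈ Classical.isoGroup ⇑Q) : a * b * a⁻¹ * b⁻¹ ∈ M := by
  obtain ⟨e, -, hee, heS⟩ := D.exists_sing_perp_notMem (![] : Fin 0 → Ks) ⊥ (by omega) (by rw [finrank_bot]; omega)
  have he0 := OData.ne_zero_of_notMem heS
  obtain ⟨f, hff, hf⟩ := D.exists_sing_dual (u := ![e]) (linearIndependent_unique_iff.mpr (by simpa using he0))
    (fun i => by fin_cases i; exact hee) (fun i j => by fin_cases i; fin_cases j; exact D.rp_self_zero hee)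
    ![1] 0 one_ne_zero
  have hfe : D.rp f e = 1 := hf 0
  have hf0 : f ≠ 0 := fun e0 => by rw [e0, D.rp_zero_left] at hfe; exact zero_ne_one hfe
  obtain ⟨u, v, hu, hv, huu, hvu⟩ := D.exists_hyp_perp ![e, f] (by omega)
  obtain ⟨x, hx⟩ := D.exists_sing_adjust huu (f := (D.rp v u)⁻¹ • v)
    (by rw [D.rp_smul_left, inv_mul_cancel₀ hvu]; exact one_ne_zero)
  set v' := (D.rp v u)⁻¹ • v + x • u with hv'
  set E := ρR e with hE
  set Fv := ρR f with hFv
  have qE : Q E = 0 := D.Q_rat_zero hee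
  have qF : Q Fv = 0 := D.Q_rat_zero hff
  have pFE : polar Q Fv E = 1 := D.polar_rat_one hfe
  have pEF : polar Q E Fv = 1 := by rw [polar_comm, pFE]
  have pEE : polar Q E E = 0 := by rw [polar_self, qE, smul_zero]
  have pFF : polar Q Fv Fv = 0 := by rw [polar_self, qF, smul_zero]
  let W : Submodule F Vs := ((QuadraticMap.polarBilin Q).flip E).ker ⊓ ((QuadraticMap.polarBilin Q).flip Fv).ker
  have memW : ∀ z, z ∈ W ↔ polar Q z E = 0 ∧ polar Q z Fv = 0 := fun z => Iff.rfl
  let Q' : QuadraticForm F W := Q.comp W.subtype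
  have hQ' : ∀ z : W, Q' z = Q (z : Vs) := fun z => rfl
  have hp' : ∀ z z' : W, polar Q' z z' = polar Q (z : Vs) (z' : Vs) := fun z z' => rfl
  let φ : (F × F × W) ≃ₗ[F] Vs :=
    { toFun := fun p => p.1 • E + p.2.1 • Fv + (p.2.2 : Vs)
      invFun := fun x => (polar Q x Fv, polar Q x E, ⟨x - polar Q x Fv • E - polar Q x E • Fv, by
        rw [memW]
        simp [polar_sub_left, polar_smul_left, pEE, pFF, pEF, pFE]⟩)
      map_add' := fun p q => by simp only [Prod.fst_add, Prod.snd_add, Submodule.coe_add, add_smul]; abel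
      map_smul' := fun c p => by
        simp only [Prod.smul_fst, Prod.smul_snd, Submodule.coe_smul, RingHom.id_apply, smul_add, smul_smul, smul_eq_mul]
      left_inv := fun p => by
        obtain ⟨h1, h2⟩ := (memW _).mp p.2.2.2
        refine Prod.ext ?_ (Prod.ext ?_ (Subtype.ext ?_))
        · simp [polar_add_left, polar_smul_left, pEF, pFF, h2]
        · simp [polar_add_left, polar_smul_left, pEE, pFE, h1]
        · simp [polar_add_left, polar_smul_left, pEF, pFF, h2, pEE, pFE, h1]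
          abel
      right_inv := fun x => by simp }
  have hφ : ∀ p, φ p = p.1 • E + p.2.1 • Fv + (p.2.2 : Vs) := fun p => rfl
  have hQφ : ∀ p, Q (φ p) = Classical.hypExt Q' p := fun p => by
    obtain ⟨h1, h2⟩ := (memW _).mp p.2.2.2
    rw [hφ, QuadraticMap.map_add (⇑Q), QuadraticMap.map_add (⇑Q), QuadraticMap.map_smul, QuadraticMap.map_smul,
      polar_add_left, polar_smul_left, polar_smul_left, polar_smul_left, polar_smul_right, qE, qF, pEF,
      polar_comm (⇑Q) E, h1, polar_comm (⇑Q) Fv, h2, Classical.hypExt_apply, hQ']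
    simp
  have huW : ∀ z : Ks, D.rp z e = 0 → D.rp z f = 0 → ρR z ∈ W := fun z h1 h2 =>
    (memW _).mpr ⟨D.polar_rat_zero h1, D.polar_rat_zero h2⟩
  have hnd : Classical.IsotropicNondeg Q' ⟨ρR u, huW u (hu 0) (hu 1)⟩ ⟨ρR v', huW v'
      (by rw [hv', D.rp_add_left, D.rp_smul_left, D.rp_smul_left, show D.rp v e = 0 from hv 0,
        show D.rp u e = 0 from hu 0]; ring)
      (by rw [hv', D.rp_add_left, D.rp_smul_left, D.rp_smul_left, show D.rp v f = 0 from hv 1,
        show D.rp u f = 0 from hu 1]; ring)⟩ := by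
    refine ⟨fun z hz => ?_, D.Q_rat_zero huu, D.Q_rat_zero hx, ?_⟩
    · refine Subtype.ext (D.nondeg _ fun y => ?_)
      obtain ⟨h1, h2⟩ := (memW _).mp z.2
      obtain ⟨p, rfl⟩ := φ.surjective y
      rw [hφ, polar_add_right, polar_add_right, polar_smul_right, polar_smul_right, h1, h2, ← hp', hz]
      simp
    · rw [hp']
      exact D.polar_rat_one (by
        rw [hv', D.rp_add_right, D.rp_smul_right, D.rp_smul_right, D.rp_comm u v, inv_mul_cancel₀ hvu,
          D.rp_self_zero huu, mul_zero, add_zero])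
  have hle : Classical.eichlerGroup Q' ≤ M.comap (Classical.autConj φ).toMonoidHom := by
    rw [Classical.eichlerGroup, Subgroup.closure_le]
    rintro _ (⟨z, rfl⟩ | ⟨z, rfl⟩) <;> obtain ⟨z1, z2⟩ := (memW _).mp z.2
    · obtain ⟨g, hg, eg⟩ := D.hasRoot_all_eight hn hgood he0 hee (w := -(z : Vs)) (by rw [polar_neg_left, z1, neg_zero])
      show Classical.autConj φ (Classical.hypSiegel Q' z) ∈ M
      convert hg using 1
      refine LinearEquiv.ext fun y => ?_
      obtain ⟨p, rfl⟩ := φ.surjective y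
      obtain ⟨h1, h2⟩ := (memW _).mp p.2.2.2
      rw [Classical.autConj_apply, LinearEquiv.symm_apply_apply, eg, Classical.hypSiegel_apply, hφ, hφ, hp', hQ']
      simp only [Submodule.coe_add, Submodule.coe_smul, QuadraticMap.map_neg, polar_add_left, polar_smul_left,
        polar_neg_right, ← hE, pEE, pFE, h1, polar_comm (⇑Q) E (z : Vs), z1, polar_comm (⇑Q) Fv (z : Vs), z2,
        polar_comm (⇑Q) (z : Vs) (p.2.2 : Vs), smul_eq_mul]
      match_scalars <;> ring
    · obtain ⟨g, hg, eg⟩ := D.hasRoot_all_eight hn hgood hf0 hff (w := -(z : Vs)) (by rw [polar_neg_left, z2, neg_zero])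
      show Classical.autConj φ (Classical.hypSiegel' Q' z) ∈ M
      convert hg using 1
      refine LinearEquiv.ext fun y => ?_
      obtain ⟨p, rfl⟩ := φ.surjective y
      obtain ⟨h1, h2⟩ := (memW _).mp p.2.2.2
      rw [Classical.autConj_apply, LinearEquiv.symm_apply_apply, eg, Classical.hypSiegel'_apply, hφ, hφ, hp', hQ']
      simp only [Submodule.coe_add, Submodule.coe_smul, QuadraticMap.map_neg, polar_add_left, polar_smul_left,
        polar_neg_right, ← hFv, pFF, pEF, h2, polar_comm (⇑Q) E (z : Vs), z1, polar_comm (⇑Q) Fv (z : Vs), z2,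
        polar_comm (⇑Q) (z : Vs) (p.2.2 : Vs), smul_eq_mul]
      match_scalars <;> ring
  have conjMem : ∀ {c : Vs ≃ₗ[F] Vs}, c ∈ Classical.isoGroup ⇑Q →
      Classical.autConj φ.symm c ∈ Classical.isoGroup ⇑(Classical.hypExt Q') := fun {c} hc p => by
    rw [Classical.autConj_apply, ← hQφ, LinearEquiv.apply_symm_apply, LinearEquiv.symm_symm, hc, hQφ]
  have h := hle (Classical.commutator_mem_eichler hnd
    (Or.inr (by rw [φ.finrank_eq, Module.finrank_fintype_fun_eq_card]; omega)) (conjMem ha) (conjMem hb))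
  rw [Subgroup.mem_comap, map_mul, map_mul, map_mul, map_inv, map_inv] at h
  have hcancel : ∀ c, (Classical.autConj φ).toMonoidHom (Classical.autConj φ.symm c) = c := fun c =>
    LinearEquiv.ext fun y => by simp [Classical.autConj_apply]
  rwa [hcancel, hcancel] at h

theorem exists_root_commutator_eight (hn : 8 ≤ Fintype.card ι) {a b : Ks} (ha : D.rQ a = 0) (hb : D.rQ b = 0)
    (hab : D.rp a b = 0) (k : F) :
    ∃ X Y : Vs ≃ₗ[F] Vs, X ∈ Classical.isoGroup ⇑Q ∧ Y ∈ Classical.isoGroup ⇑Q ∧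
      ∀ z, (X * Y * X⁻¹ * Y⁻¹) z = z + polar Q z (k • ρR b) • ρR a - polar Q z (ρR a) • (k • ρR b)
        - (Q (k • ρR b) * polar Q z (ρR a)) • ρR a := by
  obtain ⟨t, s, ht, hs, htt, hst⟩ := D.exists_hyp_perp ![a, b] (by omega)
  obtain ⟨x, hx⟩ := D.exists_sing_adjust htt (f := (D.rp s t)⁻¹ • s)
    (by rw [D.rp_smul_left, inv_mul_cancel₀ hst]; exact one_ne_zero)
  set t' := (D.rp s t)⁻¹ • s + x • t with ht'
  have h't : D.rp t' t = 1 := by
    rw [ht', D.rp_add_left, D.rp_smul_left, D.rp_smul_left, inv_mul_cancel₀ hst, D.rp_self_zero htt, mul_zero,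
      add_zero]
  have h'a : D.rp t' a = 0 := by
    rw [ht', D.rp_add_left, D.rp_smul_left, D.rp_smul_left, show D.rp s a = 0 from hs 0,
      show D.rp t a = 0 from ht 0]; ring
  have h'b : D.rp t' b = 0 := by
    rw [ht', D.rp_add_left, D.rp_smul_left, D.rp_smul_left, show D.rp s b = 0 from hs 1,
      show D.rp t b = 0 from ht 1]; ring
  have qa : Q (ρR a) = 0 := D.Q_rat_zero ha
  have qb : Q (ρR b) = 0 := D.Q_rat_zero hb
  have qt : Q (ρR t) = 0 := D.Q_rat_zero htt
  have qt' : Q (ρR t') = 0 := D.Q_rat_zero hx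
  have pbt : polar Q (ρR b) (ρR t) = 0 := D.polar_rat_zero ((D.rp_comm b t).trans (ht 1))
  have pat' : polar Q (ρR a) (ρR t') = 0 := D.polar_rat_zero ((D.rp_comm a t').trans h'a)
  have pba : polar Q (ρR b) (ρR a) = 0 := D.polar_rat_zero ((D.rp_comm b a).trans hab)
  have ptt' : polar Q (ρR t') (ρR t) = 1 := D.polar_rat_one h't
  have pbt' : polar Q (ρR b) (ρR t') = 0 := D.polar_rat_zero ((D.rp_comm b t').trans h'b)
  set X := Classical.eichlerEquiv Q (ρR b) (ρR t) qb pbt with hX
  set Y := Classical.eichlerEquiv Q (ρR a) (k • ρR t') qa (by rw [polar_smul_right, pat', smul_zero]) with hY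
  refine ⟨X, Y, Classical.eichlerEquiv_mem _ _ _ _ _, Classical.eichlerEquiv_mem _ _ _ _ _, fun z => ?_⟩
  have e1 : X (k • ρR t') = k • ρR t' + k • ρR b := by
    rw [hX, Classical.eichlerEquiv_apply, polar_smul_left, polar_smul_left, ptt', polar_comm (⇑Q) (ρR t'), pbt', qt]
    module
  have e2 : X (ρR a) = ρR a := by
    rw [hX, Classical.eichlerEquiv_apply, D.polar_rat_zero ((D.rp_comm a t).trans (ht 0)), polar_comm (⇑Q) (ρR a),
      pba]
    module
  have hconj := Classical.eichlerEquiv_conj Q (ρR a) (k • ρR t') qa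
    (by rw [polar_smul_right, pat', smul_zero]) (g := X) (Classical.eichlerEquiv_mem _ _ _ _ _)
  rw [← hY] at hconj
  rw [LinearEquiv.mul_apply, hconj]
  obtain ⟨y, rfl⟩ := Y.surjective z
  rw [show Y⁻¹ (Y y) = y from Y.symm_apply_apply y, Classical.eichlerEquiv_apply, e1, e2, hY,
    Classical.eichlerEquiv_apply]
  simp only [polar_add_left, polar_sub_left, polar_smul_left, polar_add_right, polar_smul_right,
    QuadraticMap.map_add (⇑Q), QuadraticMap.map_smul, polar_self, qa, qb, qt', pba, polar_comm (⇑Q) (ρR a) (ρR b),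
    pat', polar_comm (⇑Q) (ρR t') (ρR a), pbt', polar_comm (⇑Q) (ρR t') (ρR b), smul_zero, smul_eq_mul]
  match_scalars <;> ring

end OData

theorem isMaximalIn_subfield_eight [Finite F] {Q : QuadraticForm F (ι → F)}
    (hQ : ∀ z, (∀ w, polar Q z w = 0) → z = 0) (hn : 8 ≤ Fintype.card ι) (K : Subfield F) (r : ℕ) (hr : r.Prime)
    (hcard : Nat.card F = Nat.card K ^ r) (P : GL ι F) (hP : ∀ u : ι → K, Q (ratVec K P u) ∈ K) :
    Cfsg.Geo.IsMaximalIn (Cfsg.Geo.omegaGL ⇑Q) (Cfsg.Geo.subfieldSubgroup K P ⊓ Cfsg.Geo.omegaGL ⇑Q) := by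
  classical
  have D : OData Q K P := ⟨hQ, hP⟩
  set Φ := Forms.glEquiv ι F with hΦ
  have hiff : ∀ A : GL ι F, Φ A ∈ Classical.isoGroup ⇑Q ↔ A ∈ Cfsg.isometryGroup F ⇑Q := fun A => by
    rw [Forms.mem_isometryGroup_iff]; rfl
  have hcomm : ∀ X Y : (ι → F) ≃ₗ[F] (ι → F), X ∈ Classical.isoGroup ⇑Q → Y ∈ Classical.isoGroup ⇑Q →
      Φ.symm (X * Y * X⁻¹ * Y⁻¹) ∈ Cfsg.Geo.omegaGL ⇑Q := by
    intro X Y hX hY
    rw [omegaGL_eq_commutator, map_mul, map_mul, map_mul, map_inv, map_inv]
    exact Subgroup.commutator_mem_commutator ((hiff _).mp (by rwa [Φ.apply_symm_apply]))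
      ((hiff _).mp (by rwa [Φ.apply_symm_apply]))
  refine ⟨lt_of_le_of_ne inf_le_right fun heq => ?_, fun M hHM hMG => ?_⟩
  · obtain ⟨a, -, ha, haS⟩ := D.exists_sing_perp_notMem (![] : Fin 0 → ι → K) ⊥ (by omega)
      (by rw [finrank_bot]; omega)
    have ha0 := OData.ne_zero_of_notMem haS
    obtain ⟨b, hb, hbb, hbS⟩ := D.exists_sing_perp_notMem ![a] (Submodule.span K {a}) (by omega)
      (by rw [finrank_span_singleton ha0]; omega)
    obtain ⟨k, hk⟩ : ∃ k : F, k ∉ K := by
      by_contra hall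
      push Not at hall
      have e : Nat.card K = Nat.card F := Nat.card_congr (Equiv.subtypeUnivEquiv hall)
      rw [e] at hcard
      exact hr.one_lt.ne' (Nat.pow_right_injective (Finite.one_lt_card (α := F))
        (hcard.symm.trans (pow_one _).symm))
    obtain ⟨X, Y, hX, hY, hg⟩ := D.exists_root_commutator_eight hn ha hbb ((D.rp_comm a b).trans (hb 0)) k
    obtain ⟨l, hl, h⟩ := exists_scale_of_mem (heq.ge (hcomm X Y hX hY)).1
    refine D.not_stab_root (OData.indep_two ha0 hbS) ha hbb ((D.rp_comm a b).trans (hb 0)) hk hg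
      ⟨l, hl, fun u => ?_⟩
    obtain ⟨v, hv⟩ := h u
    refine ⟨v, ?_⟩
    rw [← Φ.apply_symm_apply (X * Y * X⁻¹ * Y⁻¹)]
    exact hv
  by_cases hM : M ≤ Cfsg.Geo.subfieldSubgroup K P
  · exact Or.inl (le_antisymm (le_inf hM hMG) hHM)
  right
  obtain ⟨A, hAM, hA⟩ := SetLike.not_le_iff_exists.mp hM
  have hMI : M ≤ Cfsg.isometryGroup F ⇑Q := hMG.trans (Subgroup.map_subtype_le _)
  set M' := M.map Φ.toMonoidHom with hM'
  have hO : Over D M' := by
    refine ⟨?_, fun a b ha hb hab => ?_⟩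
    · rintro _ ⟨B, hB, rfl⟩
      exact (hiff B).mpr (hMI hB)
    · obtain ⟨X, Y, hX, hY, hg⟩ := D.exists_root_commutator_eight hn ha hb hab 1
      refine ⟨_, ⟨Φ.symm (X * Y * X⁻¹ * Y⁻¹), hHM ⟨mem_subfield_of_maps one_ne_zero fun u => ?_,
        hcomm X Y hX hY⟩, Φ.apply_symm_apply _⟩, fun z => by simpa using hg z⟩
      refine ⟨u + D.rp u b • a - D.rp u a • b - (D.rQ b * D.rp u a) • a, ?_⟩
      rw [one_smul, ratVec_sub, ratVec_sub, ratVec_add, ratVec_smul, ratVec_smul, ratVec_smul, hΦ,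
        Forms.glEquiv_symm_mulVec, hg, one_smul, MulMemClass.coe_mul, D.coe_rp, D.coe_rp, D.coe_rQ]
  have hgK : ¬ ∃ l : F, l ≠ 0 ∧ ∀ u : ι → K, ∃ v : ι → K, Φ A (ratVec K P u) = l • ratVec K P v := by
    rintro ⟨l, hl, h⟩
    exact hA (mem_subfield_of_maps hl h)
  have hgood := D.good_of_not_stab_eight hO hn r hr hcard (Subgroup.mem_map_of_mem _ hAM) hgK
  refine le_antisymm hMG ?_
  rw [omegaGL_eq_commutator, Subgroup.commutator_le]
  intro a ha b hb
  obtain ⟨C, hC, hCe⟩ := D.commutator_mem_eight (M := M') hn hgood ((hiff a).mpr ha) ((hiff b).mpr hb)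
  rw [MulEquiv.coe_toMonoidHom, ← map_inv, ← map_inv, ← map_mul, ← map_mul, ← map_mul] at hCe
  rw [commutatorElement_def, ← Φ.injective hCe]
  exact hC

end Cfsg.Agent.Lib.OrthSubfield
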